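import Groth.Agent.AbVar.K526.Free
import Groth.Agent.Sga2lef.H104.StalkHom
import Groth.Agent.Sga2.PnHomExact
import Groth.Agent.Divis.StalkMod
import Groth.Agent.CohqB.HomSheafCoh
import Groth.Agent.CurvesC.UnitCoh
import Groth.Agent.CycB.CohStalk
/-!
# The dual of a class of coherent modules

`dl c`: the class of `Hom(F, O)` for `c` the class of `F`; `FrAt x c`: the stalk of `F` at `x` is free;
`exists_ses_dl`: a short exact sequence `0 → a → b → c → 0` with `c` free outside `W` gives exact sequences
`0 → dl c → dl b → I → 0`, `0 → I → dl a → C → 0` with `C` supported in `W`.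
-/

set_option autoImplicit false
universe u
open CategoryTheory CategoryTheory.Limits AlgebraicGeometry
open Groth.Agent Groth.Agent.Fga.PicMon Groth.Agent.Fga Groth.Agent.Pic13.H11.Cls
open Groth.Agent.CohqB.HomSheaf Groth.Agent.Sga2.PnHomAdj Groth.Agent.Sga2.PnHomExact Groth.Agent.CycB.StalkExact

namespace K110.DualSeq

open K526

variable {X : Scheme.{u}}

/-- The dual module. -/
noncomputable abbrev DD (F : X.Modules) : X.Modules := homSheaf F (Coh.structureModule X)

/-- The class of the dual module. -/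
noncomputable def dl : MC X → MC X :=
  Quot.lift (fun F => mc (DD F)) fun F G ⟨e⟩ => mc_eq
    { hom := homMapLeft e.inv (Coh.structureModule X)
      inv := homMapLeft e.hom (Coh.structureModule X)
      hom_inv_id := by rw [homMapLeft_comp, e.hom_inv_id, homMapLeft_id]
      inv_hom_id := by rw [homMapLeft_comp, e.inv_hom_id, homMapLeft_id] }

theorem dl_mc (F : X.Modules) : dl (mc F) = mc (DD F) := rfl

theorem isCoh_DD [IsLocallyNoetherian X] {F : X.Modules} (hF : Coh.IsCoh F) : Coh.IsCoh (DD F) :=
  CohqB.HomSheaf.isCoh_homSheaf hF (CurvesC.UnitCoh.isCoh_unit _)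

theorem co_dl [IsLocallyNoetherian X] {c : MC X} (hc : Co c) : Co (dl c) := by
  induction c using MC.ind with | h F => exact isCoh_DD hc

/-- The stalk at `x` is a free module. -/
def FrAt (x : X) : MC X → Prop :=
  Quot.lift (fun F => Module.Free (X.presheaf.stalk x) (F.presheaf.stalk x)) fun F G ⟨e⟩ =>
    propext ⟨fun h => Module.Free.of_equiv (stalkLinEquiv e x), fun h => Module.Free.of_equiv (stalkLinEquiv e.symm x)⟩

theorem frAt_mc (x : X) (F : X.Modules) :
    FrAt x (mc F) = Module.Free (X.presheaf.stalk x) (F.presheaf.stalk x) := rfl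

theorem frAt_of_isFinLocFree {F : X.Modules} (hq : Coh.IsQCoh F) (hF : FlatMod.IsFinLocFree F) (x : X) : FrAt x (mc F) :=
  (Divis.StalkMod.finite_free_stalk hq hF x).2

/-- The kernel of a surjection of free modules. -/
theorem frAt_left [IsLocallyNoetherian X] {a b c : MC X} (hs : Ses a b c) {x : X} (hb : FrAt x b) (hc : FrAt x c) :
    FrAt x a := by
  obtain ⟨S, hS, h1, h2, h3, rfl, rfl, rfl⟩ := hs
  rw [frAt_mc] at hb hc ⊢
  have hex := stalkLin_exact S hS.exact x
  have := hS.mono_f
  have := hS.epi_g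
  have hinj := stalkLin_injective S.f x
  have hsur := stalkLin_surjective S.g x
  have hl := Module.projective_lifting_property (stalkLin S.g x) LinearMap.id hsur
  obtain ⟨l, hl⟩ := ((hex.split_tfae hinj hsur).out 0 1).mp hl
  have hfin : Module.Finite (X.presheaf.stalk x) (S.X₁.presheaf.stalk x) := CycB.CohStalk.finite_stalk _ h1 x
  have hproj : Module.Projective (X.presheaf.stalk x) (S.X₁.presheaf.stalk x) :=
    Module.Projective.of_split (stalkLin S.f x) l hl
  exact Module.free_of_flat_of_isLocalRing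

/-- Extension of functionals at a point where the quotient is free. -/
theorem surjective_stalk [IsLocallyNoetherian X] {S : ShortComplex X.Modules} (hS : S.ShortExact) (h1 : Coh.IsCoh S.X₁)
    (h2 : Coh.IsCoh S.X₂) (x : X) (hx : Module.Free (X.presheaf.stalk x) (S.X₃.presheaf.stalk x)) :
    Function.Surjective (stalkLin (homMapLeft S.f (Coh.structureModule X)) x) := by
  have hO : Coh.IsCoh (Coh.structureModule X) := CurvesC.UnitCoh.isCoh_unit _
  have hex := stalkLin_exact S hS.exact x
  have := hS.mono_f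
  have := hS.epi_g
  have hinj := stalkLin_injective S.f x
  have hsur := stalkLin_surjective S.g x
  have hl := Module.projective_lifting_property (stalkLin S.g x) LinearMap.id hsur
  obtain ⟨l, hl⟩ := ((hex.split_tfae hinj hsur).out 0 1).mp hl
  obtain ⟨U, hU, hxU, -⟩ := exists_isAffineOpen_mem_and_subset (X := X) (x := x) (U := ⊤) trivial
  obtain ⟨e₁, he₁⟩ := Sga2lef.H104.StalkHom.exists_equiv h2 hO hU x hxU
  obtain ⟨e₂, he₂⟩ := Sga2lef.H104.StalkHom.exists_equiv h1 hO hU x hxU
  intro y
  refine ⟨e₁.symm ((e₂ y) ∘ₗ l), ?_⟩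
  apply e₂.injective
  rw [Sga2lef.H104.StalkHom.equiv_nat h2 h1 hO hU x hxU S.f e₁ e₂ he₁ he₂, LinearEquiv.apply_symm_apply,
    LinearMap.comp_assoc, hl, LinearMap.comp_id]

theorem exists_ses_dl [IsLocallyNoetherian X] {a b c : MC X} (hs : Ses a b c) (W : Set X)
    (hW : ∀ x ∉ W, FrAt x c) : ∃ I C : MC X, Ses (dl c) (dl b) I ∧ Ses I (dl a) C ∧ supp C ⊆ W := by
  obtain ⟨S, hS, h1, h2, h3, rfl, rfl, rfl⟩ := hs
  have hO : Coh.IsCoh (Coh.structureModule X) := CurvesC.UnitCoh.isCoh_unit _
  have hm : Mono (homMapLeft S.g (Coh.structureModule X)) := by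
    have := hS.epi_g
    exact mono_homMapLeft S.g _
  have hex : (homSC S (Coh.structureModule X)).Exact := exact_homSC hS h1.1 h2.1 _
  let j : cokernel (homMapLeft S.g (Coh.structureModule X)) ⟶ DD S.X₁ :=
    cokernel.desc _ (homMapLeft S.f _) (homSC S (Coh.structureModule X)).zero
  have hj : Mono j := hex.mono_cokernelDesc
  have s1 := Ses.of_mono (homMapLeft S.g (Coh.structureModule X)) (isCoh_DD h3) (isCoh_DD h2)
  have s2 := Ses.of_mono j s1.co₃ (isCoh_DD h1)
  refine ⟨_, _, s1, s2, ?_⟩
  rw [supp_mc]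
  intro x hx
  by_contra hxW
  apply hx
  have hsur := surjective_stalk hS h1 h2 x (hW x hxW)
  have hjs : Function.Surjective (stalkLin j x) := by
    have h5 : homMapLeft S.f (Coh.structureModule X) = cokernel.π _ ≫ j := (cokernel.π_desc _ _ _).symm
    rw [h5, stalkLin_comp] at hsur
    exact Function.Surjective.of_comp hsur
  have hex2 := stalkLin_exact (ShortComplex.mk j (cokernel.π j) (cokernel.condition j))
    (ShortComplex.exact_of_g_is_cokernel _ (cokernelIsCokernel _)) x
  refine subsingleton_of_forall_eq 0 fun z => ?_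
  obtain ⟨y, rfl⟩ := stalkLin_surjective (cokernel.π j) x z
  exact (hex2 y).mpr (hjs y)

end K110.DualSeq
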