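import Groth.Agent.Coherent.K55.Core
import Groth.Agent.Divis.StalkMod
import Groth.Agent.CycB.CohStalk
/-!
# Freeness of the stalks of direct images where the rank of the fibres is constant

`free_stalk`: `f` proper of finite presentation over a reduced locally Noetherian `S`, `F` flat over `S`, and
`dim H^i(X_s, F_s) = n` for all `s` in an open set `U`; then the stalks of `R^i f_* F` at the points of `U` are free.
-/

set_option autoImplicit false
universe u
open CategoryTheory CategoryTheory.Limits AlgebraicGeometry TopologicalSpace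
open Groth.Agent K55.KerAlg

namespace K110.FreeTop

theorem free_stalk {X S : Scheme.{u}} (f : X ⟶ S) [IsProper f] [LocallyOfFinitePresentation f]
    [HasInjectiveResolutions X.Modules] [IsLocallyNoetherian S] [IsReduced S]
    (F : X.Modules) (hF : Coh.IsQCoh F) (hfp : CohB1.IsFP F) (hfl : FlatMod.IsFlatOver f F) (i n : ℕ)
    (U : S.Opens) (hn : ∀ s ∈ U, CohIII.fiberRank f F i s = n) {s : S} (hs : s ∈ U) :
    Module.Free (S.presheaf.stalk s) (((Coh.Rpush f i).obj F).presheaf.stalk s) := by
  obtain ⟨V, hV, hsV, hVU⟩ := exists_isAffineOpen_mem_and_subset (X := S) (x := s) (U := U) hs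
  obtain ⟨K, hK⟩ := K55.PackV.exists_packV f F hfp hfl hV
  obtain ⟨θ₀, hθ⟩ := hK i
  have hred : _root_.IsReduced Γ(S, V) := inferInstance
  have hlc : IsLocallyConstant (kr (K.u i)) := by
    have h1 : kr (K.u i) = fun _ => n := by
      funext z
      have h2 := K55.Aff.fiberRank_eq (hθ.2.2 ⟨hV.fromSpec z, Ega3B.SpecPoint.fromSpec_mem hV z⟩)
      rw [Ega3B.SpecPoint.primeIdealOf_fromSpec hV z] at h2
      rw [← h2]
      exact hn _ (hVU (Ega3B.SpecPoint.fromSpec_mem hV z))
    rw [h1]
    exact IsLocallyConstant.const n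
  obtain ⟨hO, hC⟩ := projective_of_isLocallyConstant (K.exact i) (K.surj i) hlc
  obtain ⟨e⟩ := K55.Aff.exists_secEquiv hF hV K i θ₀ hθ.1
  have h1 := finite_ker (K.exact i) (K.surj i)
  obtain ⟨r, hr⟩ := exists_retraction (K.exact i) (K.surj i)
  have h2 : Module.Projective Γ(S, V) (LinearMap.ker (K.u i)) := Module.Projective.of_split _ r hr
  have h3 : Module.Finite Γ(S, V) Γ((Coh.Rpush f i).obj F, V) := Module.Finite.equiv e.symm
  have h4 : Module.Projective Γ(S, V) Γ((Coh.Rpush f i).obj F, V) := Module.Projective.of_equiv e.symm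
  refine Divis.StalkMod.stalk_elim ((Coh.Rpush f i).obj F) (CohqA.RelCoh.isQCoh_Rpush f F hF i) hV s hsV ?_
  intro _ _ _ _ l _ _ _
  have h5 : Module.Finite (S.presheaf.stalk s) (((Coh.Rpush f i).obj F).presheaf.stalk s) :=
    Module.Finite.of_isLocalizedModule (hV.primeIdealOf ⟨s, hsV⟩).asIdeal.primeCompl l
  have h6 : Module.Flat (S.presheaf.stalk s) (((Coh.Rpush f i).obj F).presheaf.stalk s) :=
    Module.Flat.of_isLocalizedModule (S.presheaf.stalk s) (hV.primeIdealOf ⟨s, hsV⟩).asIdeal.primeCompl l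
  exact Module.free_of_flat_of_isLocalRing

end K110.FreeTop
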