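import Groth.Agent.AbVar.K526.RankPoly
import Mathlib.Algebra.Polynomial.Degree.Lemmas
import Mathlib.Algebra.Polynomial.AlgebraMap
import Mathlib.Algebra.Polynomial.Roots
import Mathlib.Order.Interval.Set.Infinite
/-!
# Functions on the rationals which are polynomial on both sides of a point

`Jet n r`: `r` agrees with polynomials on `(-ε, 0)` and on `(0, ε)`, which are congruent modulo `X^n`.
-/

set_option autoImplicit false

open Polynomial

namespace K110.Jet

/-- `r` is polynomial on both sides of `0`, and the two polynomials are congruent modulo `X^n`. -/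
def Jet (n : ℕ) (r : ℚ → ℚ) : Prop :=
  ∃ (ε : ℚ) (Pm Pp : ℚ[X]), 0 < ε ∧ (∀ x, -ε < x → x < 0 → r x = Pm.eval x) ∧
    (∀ x, 0 < x → x < ε → r x = Pp.eval x) ∧ X ^ n ∣ Pp - Pm

variable {n : ℕ} {r r' : ℚ → ℚ}

theorem Jet.congr (h : Jet n r) {ε : ℚ} (hε : 0 < ε) (hr : ∀ x, -ε < x → x < ε → x ≠ 0 → r' x = r x) : Jet n r' := by
  obtain ⟨δ, Pm, Pp, hδ, h1, h2, h3⟩ := h
  refine ⟨min ε δ, Pm, Pp, lt_min hε hδ, fun x hx hx0 => ?_, fun x hx0 hx => ?_, h3⟩
  · have e1 : -ε < x := lt_of_le_of_lt (neg_le_neg (min_le_left _ _)) hx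
    have e2 : -δ < x := lt_of_le_of_lt (neg_le_neg (min_le_right _ _)) hx
    rw [hr x e1 (by linarith) hx0.ne, h1 x e2 hx0]
  · have e1 : x < ε := lt_of_lt_of_le hx (min_le_left _ _)
    have e2 : x < δ := lt_of_lt_of_le hx (min_le_right _ _)
    rw [hr x (by linarith) e1 hx0.ne', h2 x hx0 e2]

theorem Jet.add (h : Jet n r) (h' : Jet n r') : Jet n (fun x => r x + r' x) := by
  obtain ⟨δ, Pm, Pp, hδ, h1, h2, h3⟩ := h
  obtain ⟨δ', Pm', Pp', hδ', h1', h2', h3'⟩ := h'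
  refine ⟨min δ δ', Pm + Pm', Pp + Pp', lt_min hδ hδ', fun x hx hx0 => ?_, fun x hx0 hx => ?_, ?_⟩
  · have e1 : -δ < x := lt_of_le_of_lt (neg_le_neg (min_le_left _ _)) hx
    have e2 : -δ' < x := lt_of_le_of_lt (neg_le_neg (min_le_right _ _)) hx
    change r x + r' x = _
    rw [h1 x e1 hx0, h1' x e2 hx0, eval_add]
  · have e1 : x < δ := lt_of_lt_of_le hx (min_le_left _ _)
    have e2 : x < δ' := lt_of_lt_of_le hx (min_le_right _ _)
    change r x + r' x = _
    rw [h2 x hx0 e1, h2' x hx0 e2, eval_add]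
  · have h4 := dvd_add h3 h3'
    have e : Pp + Pp' - (Pm + Pm') = Pp - Pm + (Pp' - Pm') := by ring
    rwa [e]

theorem Jet.neg (h : Jet n r) : Jet n (fun x => - r x) := by
  obtain ⟨δ, Pm, Pp, hδ, h1, h2, h3⟩ := h
  refine ⟨δ, -Pm, -Pp, hδ, fun x hx hx0 => ?_, fun x hx0 hx => ?_, ?_⟩
  · change - r x = _
    rw [h1 x hx hx0, eval_neg]
  · change - r x = _
    rw [h2 x hx0 hx, eval_neg]
  · have e : -Pp - -Pm = -(Pp - Pm) := by ring
    rw [e]
    exact (dvd_neg).mpr h3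

theorem jet_zero : Jet n (fun _ => 0) := ⟨1, 0, 0, one_pos, fun _ _ _ => by simp, fun _ _ _ => by simp, by simp⟩

/-- The polynomials are unique. -/
theorem eq_of_forall_pos {P Q : ℚ[X]} {ε : ℚ} (hε : 0 < ε) (h : ∀ x, 0 < x → x < ε → P.eval x = Q.eval x) : P = Q := by
  refine Polynomial.eq_of_infinite_eval_eq _ _ ?_
  refine Set.Infinite.mono (s := Set.Ioo 0 ε) (fun x hx => h x hx.1 hx.2) (Set.Ioo_infinite hε)

theorem eq_of_forall_neg {P Q : ℚ[X]} {ε : ℚ} (hε : 0 < ε) (h : ∀ x, -ε < x → x < 0 → P.eval x = Q.eval x) : P = Q := by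
  refine Polynomial.eq_of_infinite_eval_eq _ _ ?_
  refine Set.Infinite.mono (s := Set.Ioo (-ε) 0) (fun x hx => h x hx.1 hx.2) (Set.Ioo_infinite (by linarith))

/-- Two-sided polynomiality from a Hilbert polynomial and its dual. -/
theorem jet_of_hilbert {g m : ℕ} (hm : m ≤ g) {κ ε : ℚ} {Q Q' E : ℚ[X]} (hQ : Q.natDegree ≤ g)
    (hE : E.degree < m) (hQ' : ∀ x, Q'.eval x = (-1) ^ g * Q.eval (-x) + E.eval x) (hε : 0 < ε)
    (hneg : ∀ t : ℚ, 0 < t → t < ε → r (-t) = κ * (t ^ g * Q.eval (1 / t)))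
    (hpos : ∀ t : ℚ, 0 < t → t < ε → r t = κ * (t ^ g * Q'.eval (1 / t))) : Jet (g - m + 1) r := by
  obtain ⟨P, -, hP'⟩ := K526.RankPoly.exists_poly_reflect Q hQ
  set R : ℚ[X] := ∑ j ∈ Finset.range m, C (E.coeff j) * X ^ (g - j) with hR
  have hR' : ∀ t : ℚ, t ≠ 0 → R.eval t = t ^ g * E.eval (1 / t) := by
    intro t ht
    have hE' : E.eval (1 / t) = ∑ j ∈ Finset.range m, E.coeff j * (1 / t) ^ j := by
      by_cases h0 : E = 0
      · simp [h0]
      · exact E.eval_eq_sum_range' ((natDegree_lt_iff_degree_lt h0).mpr hE) _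
    rw [hR, hE', eval_finsetSum, Finset.mul_sum]
    refine Finset.sum_congr rfl fun j hj => ?_
    have hj' : j ≤ g := (Finset.mem_range.mp hj).le.trans hm
    have h1 : t ^ g = t ^ (g - j) * t ^ j := by rw [← pow_add, Nat.sub_add_cancel hj']
    simp only [eval_mul, eval_C, eval_pow, eval_X, one_div, inv_pow]
    rw [h1]
    field_simp
  refine ⟨ε, C κ * P.comp (-X), C κ * P.comp (-X) + C κ * R, hε, fun x hx hx0 => ?_, fun x hx0 hx => ?_, ?_⟩
  · have h3 := hneg (-x) (by linarith) (by linarith)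
    rw [neg_neg] at h3
    rw [h3, ← hP' (-x) (by linarith), eval_mul, eval_C, eval_comp, eval_neg, eval_X]
  · rw [hpos x hx0 hx, hQ', eval_add, eval_mul, eval_C, eval_comp, eval_neg, eval_X, hP' (-x) (by linarith), eval_mul,
      eval_C, hR' x hx0.ne']
    have e1 : (1 : ℚ) / -x = -(1 / x) := by rw [div_neg]
    rw [e1, neg_pow x g]
    ring
  · rw [add_sub_cancel_left]
    refine Dvd.dvd.mul_left ?_ _
    rw [hR]
    refine Finset.dvd_sum fun j hj => ?_
    refine Dvd.dvd.mul_left (pow_dvd_pow _ ?_) _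
    have := Finset.mem_range.mp hj
    omega

/-- The final form: from the rescaled function to the function at `x₀`. -/
theorem Jet.dvd (h : Jet n r') {B D x₀ ε : ℚ} (hB : B ≠ 0) (hD : 0 < D) (hr : ∀ y, r' y = B * r (x₀ + y / D))
    {Pm Pp : ℚ[X]} (hε : 0 < ε) (hl : ∀ x, x₀ - ε < x → x < x₀ → r x = Pm.eval x)
    (hrt : ∀ x, x₀ < x → x < x₀ + ε → r x = Pp.eval x) : (X - C x₀) ^ n ∣ Pp - Pm := by
  obtain ⟨δ, Pm', Pp', hδ, h1, h2, h3⟩ := h
  have hm : 0 < min δ (ε * D) := lt_min hδ (mul_pos hε hD)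
  have e1 : Pm' = C B * Pm.comp (C x₀ + C (1 / D) * X) := by
    refine eq_of_forall_neg hm fun y hy hy0 => ?_
    have e2 : -δ < y := lt_of_le_of_lt (neg_le_neg (min_le_left _ _)) hy
    have e3 : -(ε * D) < y := lt_of_le_of_lt (neg_le_neg (min_le_right _ _)) hy
    have e4 : y / D < 0 := div_neg_of_neg_of_pos hy0 hD
    have e5 : -ε < y / D := by rw [lt_div_iff₀ hD]; linarith
    rw [← h1 y e2 hy0, hr, hl _ (by linarith) (by linarith)]
    simp only [eval_mul, eval_C, eval_comp, eval_add, eval_X]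
    congr 2
    ring
  have e1' : Pp' = C B * Pp.comp (C x₀ + C (1 / D) * X) := by
    refine eq_of_forall_pos hm fun y hy0 hy => ?_
    have e2 : y < δ := lt_of_lt_of_le hy (min_le_left _ _)
    have e3 : y < ε * D := lt_of_lt_of_le hy (min_le_right _ _)
    have e4 : 0 < y / D := div_pos hy0 hD
    have e5 : y / D < ε := by rw [div_lt_iff₀ hD]; linarith
    rw [← h2 y hy0 e2, hr, hrt _ (by linarith) (by linarith)]
    simp only [eval_mul, eval_C, eval_comp, eval_add, eval_X]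
    congr 2
    ring
  obtain ⟨S, hS⟩ := h3
  rw [e1, e1', ← mul_sub, ← sub_comp] at hS
  have e6 : (Pp - Pm) = C (1 / B) * C (D ^ n) * ((X - C x₀) ^ n * S.comp (C D * (X - C x₀))) := by
    have h4 := congrArg (fun P : ℚ[X] => P.comp (C D * (X - C x₀))) hS
    simp only [mul_comp, C_comp, pow_comp, X_comp, comp_assoc, add_comp] at h4
    have e7 : C x₀ + C (1 / D) * (C D * (X - C x₀)) = (X : ℚ[X]) := by
      rw [← mul_assoc, ← C_mul, one_div, inv_mul_cancel₀ hD.ne', C_1, one_mul]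
      ring
    rw [e7, comp_X] at h4
    have e8 : (C (1 / B) * C B : ℚ[X]) = 1 := by rw [← C_mul, one_div, inv_mul_cancel₀ hB, C_1]
    calc Pp - Pm = C (1 / B) * (C B * (Pp - Pm)) := by rw [← mul_assoc, e8, one_mul]
      _ = C (1 / B) * ((C D * (X - C x₀)) ^ n * S.comp (C D * (X - C x₀))) := by rw [h4]
      _ = _ := by rw [mul_pow, C_pow]; ring
  rw [e6]
  exact Dvd.dvd.mul_left (dvd_mul_right _ _) _

end K110.Jet
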