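import Groth.Agent.AbVar.K526.RightSide
/-!
# Shifts of the degree for rank functions and for the loci of generic cohomology
-/

set_option autoImplicit false
universe u
open CategoryTheory CategoryTheory.Limits AlgebraicGeometry
open Groth.Agent Groth.Agent.Fga.PicMon Groth.Agent.Fga Groth.Agent.Pic13.H11.Cls

namespace K110.JumpShift

open K526 K526.Cut

section ctx
variable {k : Type u} [Field k] {X : Scheme.{u}} [X.Over (Spec (CommRingCat.of k))]
  [IsProper (X ↘ Spec (CommRingCat.of k))] {g : ℕ} {η : (MC X)ˣ}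
  {PP : Subgroup (MC X)ˣ} {pb : ℕ → MC X →* MC X} (H : Ctx2 k g η PP pb)
include H

omit [IsProper (X ↘ Spec (CommRingCat.of k))] in
/-- Integral shifts. -/
theorem rk_int {i : ℕ} {c : MC X} (hc : Co c) (a : ℕ) (x : ℚ) :
    rk k g η PP pb i c x = rk k g η PP pb i (η ^ a • c) (x - a) := by
  have h1 := H.toCtx.rk_shift (i := i) hc (a : ℤ) (b := 1) le_rfl (x - a)
  rw [H.one'] at h1
  have e1 : (η ^ ((a : ℤ) * ((1 : ℕ) : ℤ)) : (MC X)ˣ) = η ^ a := by
    rw [Nat.cast_one, mul_one, zpow_natCast]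
  rw [e1] at h1
  rw [h1]
  simp

omit [IsProper (X ↘ Spec (CommRingCat.of k))] in
theorem rk_int' {i : ℕ} {c : MC X} (hc : Co c) (a : ℕ) (x : ℚ) :
    rk k g η PP pb i ((η ^ a)⁻¹ • c) x = rk k g η PP pb i c (x - a) := by
  rw [rk_int H (hc.smul _) a x, smul_inv_smul]

variable {r a : ℕ} {K c : MC X} (hK : Ses K (fr X r) (η ^ a • c)) (hc : Co c) (ha : 1 ≤ a)
include hK ha

theorem ses' : Ses ((η ^ a)⁻¹ • K) ((η ^ a)⁻¹ • fr X r) c := by
  have hs := hK.smul (η ^ a)⁻¹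
  rwa [inv_smul_smul] at hs

theorem V_E {u : (MC X)ˣ} (hu : u ∈ PP) {j : ℕ} (hj : j ≠ g) : V j (u • (η ^ a)⁻¹ • fr X r) := by
  have := IntAdd.isNoetherian k X
  rw [smul_smul]
  refine V_smul_fr _ ?_ r
  have h1 := H.van' u hu (-(a : ℤ)) (by omega) j hj
  rwa [zpow_neg, zpow_natCast] at h1

theorem h_E {u : (MC X)ˣ} (hu : u ∈ PP) : h k g (u • (η ^ a)⁻¹ • fr X r) = h k g ((η ^ a)⁻¹ • fr X r) := by
  have h1 := abs_chi_eq k (fun i hi => V_E H hK ha hu hi)
  have h2 := abs_chi_eq k (fun i hi => V_E H hK ha PP.one_mem hi)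
  rw [one_smul] at h2
  rw [H.chi_smul u hu _ (hK.co₂.smul _), h2] at h1
  exact_mod_cast h1.symm

theorem hg_E : hg k PP g ((η ^ a)⁻¹ • fr X r) = h k g ((η ^ a)⁻¹ • fr X r) := by
  obtain ⟨u, hu, h1⟩ := exists_hg k PP g ((η ^ a)⁻¹ • fr X r)
  rw [← h1, h_E H hK ha hu]

theorem h_eq_shift {i : ℕ} (hi : i + 1 < g) {u : (MC X)ˣ} (hu : u ∈ PP) :
    h k i (u • c) = h k (i + 1) (u • (η ^ a)⁻¹ • K) :=
  h_shift (k := k) (g := g) ((ses' H hK ha).smul u) (fun _ hj => V_E H hK ha hu hj) hi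

theorem hg_eq_shift {i : ℕ} (hi : i + 1 < g) : hg k PP i c = hg k PP (i + 1) ((η ^ a)⁻¹ • K) := by
  unfold hg
  congr 1
  funext u
  exact h_eq_shift H hK ha hi u.2

include hc in
theorem rk_eq_shift {i : ℕ} (hi : i + 1 < g) {x : ℚ} (hx : x < 1) :
    rk k g η PP pb i c x = rk k g η PP pb (i + 1) ((η ^ a)⁻¹ • K) x := by
  have ha1 : (1 : ℚ) ≤ a := by exact_mod_cast ha
  rw [rk_int H hc a x, rk_int' H hK.co₁ a x]
  exact H.rk_succ hK hi (by linarith)

theorem h_eq_top {u : (MC X)ˣ} (hu : u ∈ PP) {m : ℕ} (hm : g = m + 1) :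
    h k m (u • c) + h k g (u • (η ^ a)⁻¹ • fr X r) = h k g (u • (η ^ a)⁻¹ • K) + h k g (u • c) := by
  subst hm
  exact h_shift_top (k := k) (m := m) ((ses' H hK ha).smul u) (fun _ hj => V_E H hK ha hu hj)
    (fun y hy j hj => H.V_top hy (by omega))

include hc in
theorem rk_eq_top {m : ℕ} (hm : g = m + 1) {x : ℚ} (hx : x < 1) :
    rk k g η PP pb m c x = rk k g η PP pb g ((η ^ a)⁻¹ • K) x + rk k g η PP pb g c x +
      - rk k g η PP pb g ((η ^ a)⁻¹ • fr X r) x := by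
  have ha1 : (1 : ℚ) ≤ a := by exact_mod_cast ha
  rw [rk_int H hc a x, rk_int' H hK.co₁ a x, rk_int (i := g) H hc a x, rk_int' H hK.co₂ a x]
  have h1 := H.rk_top hm hK (x := x - a) (by linarith)
  linarith

include hc in
/-- Where the cohomology in degree `g - 1` is generic, so is the one in degree `g`. -/
theorem good_top {m : ℕ} (hm : g = m + 1) {u : (MC X)ˣ} (hu : u ∈ PP) (h1 : h k m (u • c) = hg k PP m c) :
    h k g (u • (η ^ a)⁻¹ • K) = hg k PP g ((η ^ a)⁻¹ • K) ∧ h k g (u • c) = hg k PP g c := by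
  obtain ⟨v, hv, hgen⟩ := H.gen [(m, c), (g, (η ^ a)⁻¹ • K), (g, c)] (by
    intro y hy
    simp only [List.mem_cons, List.not_mem_nil, or_false] at hy
    rcases hy with rfl | rfl | rfl
    · exact hc
    · exact hK.co₁.smul _
    · exact hc)
  have e1 := hgen (m, c) (by simp)
  have e2 := hgen (g, (η ^ a)⁻¹ • K) (by simp)
  have e3 := hgen (g, c) (by simp)
  have h2 := h_eq_top H hK ha hu hm
  have h3 := h_eq_top H hK ha hv hm
  rw [h_E H hK ha hu] at h2
  rw [h_E H hK ha hv] at h3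
  simp only at e1 e2 e3
  have h4 := hg_le k PP g ((η ^ a)⁻¹ • K) hu
  have h5 := hg_le k PP g c hu
  omega

end ctx

end K110.JumpShift
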