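import Groth.Agent.AbVar.K110.JumpTop
import Groth.Agent.AbVar.K110.JumpShift
/-!
# Smoothness of the rank functions at zero and the jump loci, in all degrees
-/

set_option autoImplicit false
universe u
open CategoryTheory CategoryTheory.Limits MonoidalCategory CartesianMonoidalCategory AlgebraicGeometry
open scoped MonObj
open Groth.Agent Groth.Agent.Fga.PicMon Groth.Agent.Fga Groth.Agent.Pic13.H11.Cls Groth.Agent.Pic13.H11.NumU
  Groth.Agent.Grpsch.PicGrp Groth.Agent.Grpsch.Cube

namespace K110.JumpAll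

open K526 K526.Cut K526.PullM K518.Phi _root_.K526.Prod K526.Core K526.Inst K110.DualSeq K110.TopLer K526.Neg
  K110.PosNeg K110.PhFree K110.LowerH K110.Jet K110.JumpTop K110.JumpShift

variable {k : Type u} [Field k] {A : Over (Spec (CommRingCat.of k))} [GrpObj A] [IsProper A.hom]
  [GeometricallyIntegral A.hom] {g : ℕ}
  [IsAlgClosed k] {L : A.left.Modules} (hL : CohB1.IsAmple L)
  (H : Ctx2 k g (toU (mk L hL.1)) (P0 A) (fun b => pm (nn A b).left))
include H

/-- **Smoothness of rank functions at zero.** -/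
theorem jet_all {W : Set A.left} (hWc : IsClosed W) {m : ℕ} (hm : m ≤ g)
    (hW : topologicalKrullDim W < (m : WithBot ℕ∞)) (t : ℕ) : ∀ i, g ≤ i + t → ∀ c : MC A.left, Co c →
    (∀ y : Pt A, K527.FibPts.pt y ∉ W → h k i ((toU (phi (mk L hL.1) y))⁻¹ • c) = hg k (P0 A) i c) →
    Jet (g - m + 1) (rk k g (toU (mk L hL.1)) (P0 A) (fun b => pm (nn A b).left) i c) := by
  have hgm : ∀ b, 1 ≤ b → ∀ d : MC A.left, Co d →
      hg k (P0 A) g (pm (nn A b).left d) = b ^ (2 * g) * hg k (P0 A) g d := fun b hb d hd => H.hgmul b hb d hd g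
  have hP : ∀ y : Pt A, (toU (phi (mk L hL.1) y))⁻¹ ∈ P0 A := fun y =>
    Subgroup.inv_mem _ (toU_mem_P0 (phi_mem_Inv _ y))
  have top := fun c (hc : Co c) hgood => jet_top hL H.toCtx hgm hc hWc hm hW hgood
  have base : ∀ i, g ≤ i → ∀ c : MC A.left, Co c →
      (∀ y : Pt A, K527.FibPts.pt y ∉ W → h k i ((toU (phi (mk L hL.1) y))⁻¹ • c) = hg k (P0 A) i c) →
      Jet (g - m + 1) (rk k g (toU (mk L hL.1)) (P0 A) (fun b => pm (nn A b).left) i c) := by
    intro i hi c hc hgood
    rcases Nat.eq_or_lt_of_le hi with rfl | h1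
    · exact top c hc hgood
    · exact (jet_zero (n := g - m + 1)).congr one_pos fun x _ _ _ => H.rk_large h1 hc x
  induction t with
  | zero => exact fun i hi => base i hi
  | succ t ih =>
    intro i hi c hc hgood
    by_cases hig : g ≤ i
    · exact base i hig c hc hgood
    obtain ⟨a₀, ha₀⟩ := H.quot' c hc
    obtain ⟨r, K, hK⟩ := ha₀ (a₀ + 1) (by omega)
    have ha : 1 ≤ a₀ + 1 := by omega
    by_cases h1 : i + 1 < g
    · refine (ih (i + 1) (by omega) _ (hK.co₁.smul _) fun y hy => ?_).congr one_pos fun x _ hx _ =>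
        rk_eq_shift H hK hc ha h1 hx
      rw [← hg_eq_shift H hK ha h1, ← h_eq_shift H hK ha h1 (hP y)]
      exact hgood y hy
    · have hgi : g = i + 1 := by omega
      have j1 := top _ (hK.co₁.smul ((toU (mk L hL.1)) ^ (a₀ + 1))⁻¹) fun y hy =>
        (good_top H hK hc ha hgi (hP y) (hgood y hy)).1
      have j2 := top c hc fun y hy => (good_top H hK hc ha hgi (hP y) (hgood y hy)).2
      have j3 := top _ (hK.co₂.smul ((toU (mk L hL.1)) ^ (a₀ + 1))⁻¹) fun y hy => by
        rw [h_E H hK ha (hP y), hg_E H hK ha]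
      exact ((j1.add j2).add j3.neg).congr one_pos fun x _ hx _ => rk_eq_top H hK hc ha hgi hx

end K110.JumpAll
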