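import Groth.Agent.AbVar.K110.JumpAll
import Groth.Agent.AbVar.K526.GVRows
/-!
# The row S18119: the codimension of the jump locus at a critical point
-/

set_option autoImplicit false
universe u
open CategoryTheory CategoryTheory.Limits MonoidalCategory CartesianMonoidalCategory AlgebraicGeometry
open scoped MonObj
open Groth.Agent Groth.Agent.Fga.PicMon Groth.Agent.Fga Groth.Agent.Pic13.H11.Cls Groth.Agent.Pic13.H11.NumU
  Groth.Agent.Grpsch.PicGrp Groth.Agent.Grpsch.Cube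

namespace K110.JumpRow

open K526 K526.Cut K526.PullM K518.Phi _root_.K526.Prod K526.Core K526.Inst K526.Rows K526.Trans
  K110.PosNeg K110.Jet K110.JumpAll K527.FibPts
open K527.Bridge (Phi Pcl Pcl_Phi)

/-- A polynomial which is not divisible by a large power of `X - x₀`. -/
theorem not_dvd {P Q : Polynomial ℚ} {x₀ : ℚ} {n : ℕ} (h : P = (Polynomial.X - Polynomial.C x₀) ^ n * Q)
    (hQ : Q.eval x₀ ≠ 0) : ¬ (Polynomial.X - Polynomial.C x₀) ^ (n + 1) ∣ P := by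
  rintro ⟨R, hR⟩
  rw [h, pow_succ, mul_assoc] at hR
  have h1 := mul_left_cancel₀ (pow_ne_zero n (Polynomial.X_sub_C_ne_zero x₀)) hR
  apply hQ
  rw [h1]
  simp

theorem not_le {P Q : Polynomial ℚ} {x₀ : ℚ} {n g : ℕ} (h : P = (Polynomial.X - Polynomial.C x₀) ^ n * Q)
    (hQ : Q.eval x₀ ≠ 0) (hg : P.natDegree ≤ g) : n ≤ g := by
  have hQ0 : Q ≠ 0 := by
    rintro rfl
    simp at hQ
  rw [h, Polynomial.natDegree_mul (pow_ne_zero n (Polynomial.X_sub_C_ne_zero x₀)) hQ0, Polynomial.natDegree_pow,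
    Polynomial.natDegree_X_sub_C] at hg
  omega

variable {k : Type u} [Field k] [IsAlgClosed k] {A At : Over (Spec (CommRingCat.of k))} [GrpObj A]
  [IsProper A.hom] [GeometricallyIntegral A.hom] {g : ℕ} (hdim : topologicalKrullDim A.left = g)
  [GrpObj At]
  {φ : ∀ T : Over (Spec (CommRingCat.of k)), PicF.Cl (PicF.XT A.hom T) → (T ⟶ At)}
  (hφ : AbDual.IsDualAV Scheme.fppfPrecoverage A At φ)
  {P : (pullback A.hom At.hom).Modules} (hP : PicF.IsInvertible P)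
  (hPξ : AbDual.IsPoincareCl A At φ (PicF.cl P))
  [IsProper At.hom] [GeometricallyIntegral At.hom]
include hdim hφ hP hPξ

/-- Row S18119. -/
theorem row19 (hgm : HGM A g) (td : TD A g) {L L' : A.left.Modules} (hL : CohB1.IsAmple L)
    (hLL' : Nonempty (CohB1.tensorMod L L' ≅ Coh.structureModule A.left)) {F : A.left.Modules} (hF : Coh.IsCoh F)
    (i : ℕ) (a : ℤ) (b : ℕ) (hb : 0 < b) (kk : ℕ)
    (ε : ℚ) (hε : 0 < ε) (Pm Pp Q : Polynomial ℚ) (hPm : Pm.natDegree ≤ g) (hPp : Pp.natDegree ≤ g)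
    (hleft : ∀ (c : ℤ) (d : ℕ), 0 < d → (a : ℚ) / (b : ℚ) - ε < (c : ℚ) / (d : ℚ) → (c : ℚ) / (d : ℚ) ≤ (a : ℚ) / (b : ℚ) →
      ((W4c5cohrankabvar.hgen k P (W4c5cohrankabvar.twist A F L L' d (c * d)) i : ℕ) : ℚ) / (d : ℚ) ^ (2 * g) =
        Pm.eval ((c : ℚ) / (d : ℚ)))
    (hright : ∀ (c : ℤ) (d : ℕ), 0 < d → (a : ℚ) / (b : ℚ) ≤ (c : ℚ) / (d : ℚ) → (c : ℚ) / (d : ℚ) < (a : ℚ) / (b : ℚ) + ε →
      ((W4c5cohrankabvar.hgen k P (W4c5cohrankabvar.twist A F L L' d (c * d)) i : ℕ) : ℚ) / (d : ℚ) ^ (2 * g) =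
        Pp.eval ((c : ℚ) / (d : ℚ)))
    (hdiff : Pp - Pm = (Polynomial.X - Polynomial.C ((a : ℚ) / (b : ℚ))) ^ (kk + 1) * Q)
    (hQ : Q.eval ((a : ℚ) / (b : ℚ)) ≠ 0)
    (Z : Set ↥At.left) (hZ : IsClosed Z) (hZdim : topologicalKrullDim ↥Z < ((g - (kk + 1) : ℕ) : WithBot ℕ∞)) :
    ∃ α : 𝟙_ (Over (Spec (CommRingCat.of k))) ⟶ At,
      W4c5cohrankabvar.hgen k P (W4c5cohrankabvar.twist A F L L' b (a * b)) i < W4c5cohrankabvar.hAt k P (W4c5cohrankabvar.twist A F L L' b (a * b)) α i ∧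
        ¬ (Set.range α.left.base ⊆ Z) := by
  by_contra hcon
  push Not at hcon
  have hkg : kk + 1 ≤ g := not_le hdiff hQ ((Polynomial.natDegree_sub_le _ _).trans (max_le hPp hPm))
  refine not_dvd hdiff hQ ?_
  have : IsIntegral A.left := isInt
  have H := inst2 hdim hgm td hL
  have hco : Co (toU (mk L hL.1) ^ (a * b) • pm (nn A b).left (mc F)) := (co_pm _ (show Co (mc F) from hF)).smul _
  have hfin := isFinite_phi hφ hP hPξ hL
  have hsur := surjective_phi hφ hP hPξ hL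
  have hnu := isIso_nu (A := A)
  obtain ⟨h1, h2, h3⟩ := K527.Rows.poinc hP hPξ
  have hc1 : IsClosed ((Phi φ (mk L hL.1)).left ⁻¹' Z) := hZ.preimage (Phi φ (mk L hL.1)).left.continuous
  have hc2 : IsClosed ((nu A).left ⁻¹' ((Phi φ (mk L hL.1)).left ⁻¹' Z)) := hc1.preimage (nu A).left.continuous
  have hd : topologicalKrullDim ((nu A).left ⁻¹' ((Phi φ (mk L hL.1)).left ⁻¹' Z)) <
      ((g - (kk + 1) : ℕ) : WithBot ℕ∞) := by
    rw [K526.GVGrow.dim_preimage_eq (nu A).left hc1, K526.GVGrow.dim_preimage_eq (Phi φ (mk L hL.1)).left hZ]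
    exact hZdim
  have hgood : ∀ y : Pt A, pt y ∉ (nu A).left ⁻¹' ((Phi φ (mk L hL.1)).left ⁻¹' Z) →
      h k i ((toU (phi (mk L hL.1) y))⁻¹ • toU (mk L hL.1) ^ (a * b) • pm (nn A b).left (mc F)) =
        hg k (P0 A) i (toU (mk L hL.1) ^ (a * b) • pm (nn A b).left (mc F)) := by
    intro y hy
    have e1 : (y ≫ nu A) = y⁻¹ := by rw [GrpObj.comp_inv, Category.comp_id]
    have e2 : (toU (phi (mk L hL.1) y))⁻¹ = toU (Pcl (mk P hP) ((y ≫ nu A) ≫ Phi φ (mk L hL.1))) := by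
      rw [Pcl_Phi hφ h1 h2 h3, e1, phi_inv, map_inv]
    have e3 := hAt_eq hP (W4c5cohrankabvar.twist A F L L' b (a * b)) ((y ≫ nu A) ≫ Phi φ (mk L hL.1)) i
    have e4 := hgen_eq hφ hP hPξ hL (W4c5cohrankabvar.twist A F L L' b (a * b)) i
    rw [mc_twist F hL.1 hLL'] at e3 e4
    rw [e2, ← e3, ← e4]
    refine le_antisymm ?_ ?_
    · by_contra hlt
      have h5 := hcon _ (_root_.not_le.mp hlt)
      rw [range_subset_iff] at h5
      apply hy
      exact h5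
    · rw [e4, e3]
      exact hg_le k _ i _ (by rw [← e2]; exact Subgroup.inv_mem _ (toU_mem_P0 (phi_mem_Inv _ y)))
  have hjet := jet_all hL H hc2 (m := g - (kk + 1)) (Nat.sub_le _ _) hd g i (by omega) _ hco hgood
  have hkk : g - (g - (kk + 1)) + 1 = kk + 1 + 1 := by omega
  rw [hkk] at hjet
  have hb0 : (b : ℚ) ≠ 0 := by positivity
  have hdiv : ∀ (a : ℤ) (b : ℕ), 0 < b →
      (HH k (toU (mk L hL.1)) (P0 A) (fun b => pm (nn A b).left) i (mc F) b (a * b) : ℚ) / (b : ℚ) ^ (2 * g) =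
        rk k g (toU (mk L hL.1)) (P0 A) (fun b => pm (nn A b).left) i (mc F) ((a : ℚ) / (b : ℚ)) := fun a b hb =>
    (RankNum.f_div g _ (fun m B n hm hB => H.toCtx.hom i (c := mc F) hF m B n hm hB) a b hb).symm
  refine hjet.dvd (B := (b : ℚ) ^ (2 * g)) (D := (b : ℚ) ^ 2) (x₀ := (a : ℚ) / (b : ℚ)) (by positivity)
    (by positivity) (fun y => H.toCtx.rk_shift (i := i) (c := mc F) hF a hb y) hε (fun x hx1 hx2 => ?_)
    (fun x hx1 hx2 => ?_)
  · have e := hleft x.num x.den x.den_pos (by rwa [Rat.num_div_den]) (by rw [Rat.num_div_den]; exact hx2.le)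
    rw [hgen_twist hφ hP hPξ hL hLL', hdiv _ _ x.den_pos, Rat.num_div_den] at e
    exact e
  · have e := hright x.num x.den x.den_pos (by rw [Rat.num_div_den]; exact hx1.le) (by rwa [Rat.num_div_den])
    rw [hgen_twist hφ hP hPξ hL hLL', hdiv _ _ x.den_pos, Rat.num_div_den] at e
    exact e

end K110.JumpRow
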