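import Groth.Agent.AbVar.K110.DualSeq
import Groth.Agent.AbVar.K526.Serre
import Groth.Agent.AbVar.K526.RightSide
import Groth.Agent.AbVar.K526.Hilb
import Groth.Agent.Dcoh.StrTens305
import Groth.Agent.CycB.DegCurve
import Groth.Agent.TopDim.K284.Basic
import Groth.Agent.AbVar.K526.Core
import Groth.Agent.AbVar.K527.DimSet
/-!
# Lower cohomology of very negative twists of a generically free class

If `c` is free outside `W` and `dim W < m`, then for `i < g` the function `n ↦ h^i(η^{-n} ⊗ c)` is eventually a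
polynomial of degree `< m`; hence `χ(η^n ⊗ c^∨) - (-1)^g χ(η^{-n} ⊗ c)` is a polynomial of degree `< m`.
-/

set_option autoImplicit false
universe u
open CategoryTheory CategoryTheory.Limits AlgebraicGeometry
open Groth.Agent Groth.Agent.Fga.PicMon Groth.Agent.Fga Groth.Agent.Pic13.H11.Cls

namespace K110.LowerH

open K526 K526.Cut K526.PullM K110.DualSeq

theorem frAt_unit {X : Scheme.{u}} (w : (MC X)ˣ) (r : ℕ) (x : X) [IsLocallyNoetherian X] : FrAt x (w • fr X r) := by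
  obtain ⟨L, hL, hu⟩ := exists_invertible w
  rw [smul_def, ← hu, fr, ← mc_tensor]
  have h1 : FlatMod.IsFinLocFree (CohB1.tensorMod L (FlatMod.freeMod X r)) :=
    Dcoh.StrTens305.isFinLocFree_tensorObj (Groth.Agent.CycB.DegCurve.isFinLocFree_of_isInvertible hL) (Dcoh.FinLocFree.isFinLocFree_freeMod X r)
  exact frAt_of_isFinLocFree (PerfA.CohSerre.isCoh_of_isFinLocFree h1).1 h1 x

variable {k : Type u} [Field k] {X : Scheme.{u}} [X.Over (Spec (CommRingCat.of k))]
  [IsProper (X ↘ Spec (CommRingCat.of k))] {g : ℕ} {η : (MC X)ˣ}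
  {P0 : Subgroup (MC X)ˣ} {pl : ℕ → MC X →* MC X}

theorem le_of_lt_succ' {d : WithBot ℕ∞} {m : ℕ} (h : d < ((m + 1 : ℕ) : WithBot ℕ∞)) : d ≤ (m : WithBot ℕ∞) := by
  induction d using WithBot.recBotCoe with
  | bot => exact bot_le
  | coe d =>
    induction d using ENat.recTopCoe with
    | top => exact absurd h (not_lt.mpr (by exact_mod_cast le_top))
    | coe n =>
      have h1 : n < m + 1 := by exact_mod_cast h
      exact_mod_cast Nat.lt_succ_iff.mp h1

/-- The Hilbert polynomial of a class supported in a closed set of dimension `< m`. -/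
theorem exists_poly_lt (w : (MC X)ˣ) {c : MC X} (hc : Co c) {W : Set X} {m : ℕ}
    (hW : topologicalKrullDim W < (m : WithBot ℕ∞)) (hcW : supp c ⊆ W) :
    ∃ P : Polynomial ℚ, P.degree < m ∧ ∀ n : ℤ, (chi k (w ^ n • c) : ℚ) = P.eval (n : ℚ) := by
  have hd : topologicalKrullDim (supp c) < (m : WithBot ℕ∞) := lt_of_le_of_lt (K284.TopDim.dim_mono hcW) hW
  rcases m with _ | m
  · have hem : supp c = ∅ := by
      by_contra hne
      have : Nonempty (supp c) := (Set.nonempty_iff_ne_empty.mpr hne).to_subtype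
      have h0 : (0 : WithBot ℕ∞) ≤ topologicalKrullDim (supp c) := K284.TopDim.dim_nonneg
      exact absurd hd (not_lt.mpr (by simpa using h0))
    have hz : c = fr X 0 := by
      induction c using MC.ind with | h F => ?_
      exact (eq_zero_iff rfl).mpr (CohqB.DevSupport.isZero_of_support_eq_empty hem)
    refine ⟨0, by simp, fun n => ?_⟩
    have hV : ∀ i, V i (w ^ n • c) := fun i => by
      rw [hz, Core.smul_fr_zero]
      exact V_zero i
    rw [chi_eq_h_zero k fun i _ => hV i, h_eq_zero k (hV 0)]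
    simp
  · obtain ⟨P, hP, h⟩ := Hilb.exists_poly k w hc (d := m) (le_of_lt_succ' hd)
    exact ⟨P, (Polynomial.degree_le_natDegree).trans_lt (by exact_mod_cast Nat.lt_succ_of_le hP), h⟩

theorem degree_C_mul_le' (a : ℚ) (P : Polynomial ℚ) : (Polynomial.C a * P).degree ≤ P.degree := by
  rw [← Polynomial.smul_eq_C_mul]
  exact Polynomial.degree_smul_le a P

theorem co_dl' (k : Type u) [Field k] {X : Scheme.{u}} [X.Over (Spec (CommRingCat.of k))]
    [IsProper (X ↘ Spec (CommRingCat.of k))] {c : MC X} (hc : Co c) : Co (dl c) := by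
  have := IntAdd.isNoetherian k X
  exact co_dl hc

variable (H : Ctx k g η P0 pl) (hone : ∀ c, pl 1 c = c)
  (hTD : ∀ c : MC X, Co c → ∀ u : (MC X)ˣ, h k g (u • c) = h k 0 (u⁻¹ • dl c))

include H hone

/-- Serre vanishing for large twists. -/
theorem serre_large {c : MC X} (hc : Co c) : ∃ M : ℕ, ∀ n : ℕ, M ≤ n → ∀ q, V (q + 1) (η ^ (n : ℤ) • c) := by
  obtain ⟨M, hM⟩ := H.serre hc
  refine ⟨M, fun n hn q => ?_⟩
  have h1 := hM 1 le_rfl n (by push_cast; simpa using (by exact_mod_cast hn : (M : ℤ) ≤ n)) 1 P0.one_mem q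
  rwa [one_mul, hone] at h1

theorem h_zero_eq {c : MC X} (hc : Co c) : ∃ M : ℕ, ∀ n : ℕ, M ≤ n →
    (h k 0 (η ^ (n : ℤ) • c) : ℤ) = chi k (η ^ (n : ℤ) • c) := by
  obtain ⟨M, hM⟩ := serre_large H hone hc
  refine ⟨M, fun n hn => ?_⟩
  rw [chi_eq_h_zero k fun i hi => ?_]
  obtain ⟨q, rfl⟩ := Nat.exists_eq_succ_of_ne_zero (Nat.pos_iff_ne_zero.mp hi)
  exact hM n hn q

include hTD

/-- Lower cohomology of very negative twists. -/
theorem lower {W : Set X} {m : ℕ} (hW : topologicalKrullDim W < (m : WithBot ℕ∞)) (t : ℕ) :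
    ∀ i, i + t + 1 = g → ∀ c : MC X, Co c → (∀ x ∉ W, FrAt x c) →
      ∃ R : Polynomial ℚ, R.degree < m ∧ ∃ N : ℕ, ∀ n : ℕ, N ≤ n → (h k i (η ^ (-(n : ℤ)) • c) : ℚ) = R.eval (n : ℚ) := by
  have hLN : IsLocallyNoetherian X := by
    have := IntAdd.isNoetherian k X
    infer_instance
  -- the presentation
  have pres : ∀ c : MC X, Co c → (∀ x ∉ W, FrAt x c) → ∃ (K E : MC X), Ses K E c ∧ (∀ x ∉ W, FrAt x K) ∧
      ∀ n : ℕ, 1 ≤ n → ∀ j, j ≠ g → V j (η ^ (-(n : ℤ)) • E) := by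
    intro c hc hfr
    obtain ⟨a, r, K, hK⟩ := H.quot c hc
    have hs := hK.smul (η ^ a)⁻¹
    rw [inv_smul_smul] at hs
    refine ⟨_, _, hs, fun x hx => frAt_left hs (frAt_unit _ _ x) (hfr x hx), fun n hn j hj => ?_⟩
    rw [smul_smul]
    refine V_smul_fr _ ?_ r
    have h1 := H.van' 1 P0.one_mem (-(n : ℤ) - a) (by omega) j hj
    have e1 : (1 * η ^ (-(n : ℤ) - a) : (MC X)ˣ) = η ^ (-(n : ℤ)) * (η ^ a)⁻¹ := by
      rw [one_mul, zpow_sub, zpow_natCast]
    rwa [e1] at h1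
  induction t with
  | zero =>
    intro i hi c hc hfr
    obtain ⟨K, E, hs, hfrK, hE⟩ := pres c hc hfr
    obtain ⟨I, C, s1, s2, hC⟩ := exists_ses_dl hs W hfr
    obtain ⟨R, hR, hR'⟩ := exists_poly_lt (k := k) η s2.co₃ hW hC
    obtain ⟨M1, h1⟩ := h_zero_eq H hone s1.co₁
    obtain ⟨M2, h2⟩ := h_zero_eq H hone s1.co₂
    obtain ⟨M3, h3⟩ := h_zero_eq H hone s2.co₂
    refine ⟨R, hR, M1 + M2 + M3 + 1, fun n hn => ?_⟩
    have h4 := h_shift_top (k := k) (m := i) (hs.smul (η ^ (-(n : ℤ)))) (by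
      intro j hj
      exact hE n (by omega) j (by omega)) (fun x hx j hj =>
        V_of_dim k hx ((dim_supp_le _).trans H.dim.le) (by omega))
    have hg : i + 1 = g := by omega
    rw [hg, hTD _ hs.co₂, hTD _ hs.co₁, hTD _ hs.co₃, ← zpow_neg, neg_neg] at h4
    have e1 := h1 n (by omega)
    have e2 := h2 n (by omega)
    have e3 := h3 n (by omega)
    have e4 := (s1.smul (η ^ (n : ℤ))).chi_eq k
    have e5 := (s2.smul (η ^ (n : ℤ))).chi_eq k
    have e6 := hR' n
    have e7 : (h k i (η ^ (-(n : ℤ)) • c) : ℤ) = chi k (η ^ (n : ℤ) • C) := by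
      have h4' : (h k i (η ^ (-(n : ℤ)) • c) : ℤ) + h k 0 (η ^ (n : ℤ) • dl E) =
        h k 0 (η ^ (n : ℤ) • dl K) + h k 0 (η ^ (n : ℤ) • dl c) := by exact_mod_cast h4
      rw [e1, e2, e3] at h4'
      linarith
    have e8 : (h k i (η ^ (-(n : ℤ)) • c) : ℚ) = (chi k (η ^ (n : ℤ) • C) : ℚ) := by exact_mod_cast e7
    rw [e8, e6]
    simp
  | succ t ih =>
    intro i hi c hc hfr
    obtain ⟨K, E, hs, hfrK, hE⟩ := pres c hc hfr
    obtain ⟨R, hR, N, hN⟩ := ih (i + 1) (by omega) K hs.co₁ hfrK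
    refine ⟨R, hR, N + 1, fun n hn => ?_⟩
    rw [← hN n (by omega), h_shift (k := k) (g := g) (hs.smul (η ^ (-(n : ℤ)))) (fun j hj => hE n (by omega) j hj)
      (j := i) (by omega)]

/-- The Hilbert polynomials of a generically free class and of its dual. -/
theorem hilb_dual {W : Set X} {m : ℕ} (hW : topologicalKrullDim W < (m : WithBot ℕ∞)) {c : MC X} (hc : Co c)
    (hfr : ∀ x ∉ W, FrAt x c) {Q Q' : Polynomial ℚ} (hQ : ∀ n : ℤ, (chi k (η ^ n • c) : ℚ) = Q.eval (n : ℚ))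
    (hQ' : ∀ n : ℤ, (chi k (η ^ n • dl c) : ℚ) = Q'.eval (n : ℚ)) :
    ∃ E : Polynomial ℚ, E.degree < m ∧ ∀ x : ℚ, Q'.eval x = (-1) ^ g * Q.eval (-x) + E.eval x := by
  have h1 : ∀ i : Fin g, ∃ R : Polynomial ℚ, R.degree < m ∧ ∃ N : ℕ, ∀ n : ℕ, N ≤ n →
      (h k i (η ^ (-(n : ℤ)) • c) : ℚ) = R.eval (n : ℚ) := fun i =>
    lower H hone hTD hW (g - 1 - i) i (by omega) c hc hfr
  choose R hR N hN using h1
  refine ⟨-∑ i : Fin g, Polynomial.C ((-1 : ℚ) ^ (g + (i : ℕ))) * R i, ?_, ?_⟩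
  · rw [Polynomial.degree_neg]
    refine lt_of_le_of_lt (Polynomial.degree_sum_le _ _) ?_
    rw [Finset.sup_lt_iff (by exact WithBot.bot_lt_coe _)]
    intro i _
    exact lt_of_le_of_lt (degree_C_mul_le' _ _) (hR i)
  · obtain ⟨M, hM⟩ := h_zero_eq H hone (co_dl' k hc)
    have key : ∀ n : ℕ, M + (∑ i, N i) ≤ n → Q'.eval (n : ℚ) = (-1) ^ g * Q.eval (-(n : ℚ)) +
        (-∑ i : Fin g, Polynomial.C ((-1 : ℚ) ^ (g + (i : ℕ))) * R i).eval (n : ℚ) := by
      intro n hn
      have e1 : (Q'.eval (n : ℚ)) = (h k g (η ^ (-(n : ℤ)) • c) : ℚ) := by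
        rw [hTD _ hc, ← zpow_neg, neg_neg]
        have h2 := hM n (by omega)
        have h3 := hQ' n
        rw [Int.cast_natCast] at h3
        rw [← h3]
        exact_mod_cast h2.symm
      have e2 : Q.eval (-(n : ℚ)) = ∑ i ∈ Finset.range (g + 1), (-1 : ℚ) ^ i * (h k i (η ^ (-(n : ℤ)) • c) : ℚ) := by
        have h3 := hQ (-(n : ℤ))
        rw [chi_eq_sum k _ g fun i hi => V_of_dim k (hc.smul _) ((dim_supp_le _).trans H.dim.le) hi] at h3
        push_cast at h3
        rw [← h3]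
      rw [e1, e2, Finset.sum_range_succ, mul_add, ← mul_assoc, ← pow_add, ← two_mul, pow_mul, neg_one_sq, one_pow,
        one_mul, Polynomial.eval_neg, Polynomial.eval_finsetSum, Finset.sum_range, Finset.mul_sum]
      have e3 : ∀ i : Fin g, (Polynomial.C ((-1 : ℚ) ^ (g + (i : ℕ))) * R i).eval (n : ℚ) =
          (-1) ^ g * ((-1) ^ (i : ℕ) * (h k i (η ^ (-(n : ℤ)) • c) : ℚ)) := by
        intro i
        have : N i ≤ ∑ i, N i := Finset.single_le_sum (f := N) (fun _ _ => Nat.zero_le _) (Finset.mem_univ i)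
        rw [Polynomial.eval_mul, Polynomial.eval_C, hN i n (by omega), pow_add]
        ring
      rw [Finset.sum_congr rfl fun i _ => e3 i]
      ring
    intro x
    have h7 : Q' = Polynomial.C ((-1 : ℚ) ^ g) * Q.comp (-Polynomial.X) +
        (-∑ i : Fin g, Polynomial.C ((-1 : ℚ) ^ (g + (i : ℕ))) * R i) := by
      refine Polynomial.eq_of_infinite_eval_eq _ _ ?_
      refine Set.Infinite.mono (s := Set.range fun n : ℕ => ((M + (∑ i, N i) + n : ℕ) : ℚ)) ?_ ?_
      · rintro _ ⟨n, rfl⟩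
        have := key (M + (∑ i, N i) + n) (by omega)
        simp only [Set.mem_ofPred_eq, Polynomial.eval_add, Polynomial.eval_mul, Polynomial.eval_C, Polynomial.eval_comp,
          Polynomial.eval_neg, Polynomial.eval_X] at this ⊢
        exact this
      · refine Set.infinite_range_of_injective fun x y hxy => ?_
        have : (M + (∑ i, N i) + x : ℕ) = M + (∑ i, N i) + y := by exact_mod_cast hxy
        omega
    have h8 := congrArg (Polynomial.eval x) h7
    rw [Polynomial.eval_add, Polynomial.eval_mul, Polynomial.eval_C, Polynomial.eval_comp, Polynomial.eval_neg,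
      Polynomial.eval_X] at h8
    exact h8

end K110.LowerH
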