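import Groth.Agent.AbVar.K110.FreeTop
import Groth.Agent.AbVar.K110.DualSeq
import Groth.Agent.AbVar.K526.Neg
import Groth.Agent.AbVar.K527.FibPts
/-!
# Freeness of the transforms outside the jump locus
-/

set_option autoImplicit false
universe u
open CategoryTheory CategoryTheory.Limits MonoidalCategory CartesianMonoidalCategory AlgebraicGeometry
open scoped MonObj
open Groth.Agent Groth.Agent.Fga.PicMon Groth.Agent.Fga Groth.Agent.Pic13.H11.Cls Groth.Agent.Pic13.H11.NumU
  Groth.Agent.Grpsch.PicGrp Groth.Agent.Grpsch.Cube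

namespace K110.PhFree

open K526 K526.Cut K526.PullM K518.Phi _root_.K526.Prod K526.Core K526.Fam K526.Inst K110.DualSeq

variable {k : Type u} [Field k] [IsAlgClosed k] {A : Over (Spec (CommRingCat.of k))} [GrpObj A] [IsProper A.hom]
  [GeometricallyIntegral A.hom]

/-- The transform `R^i q_*(λ ⊗ p^*c)` is free at the points outside a closed set which contains the `y` with
`h^i(φ(y) ⊗ c)` larger than its generic value. -/
theorem frAt_Ph (ℓ : Pic A.left) {c : MC A.left} (hc : Co c) (i : ℕ) {W : Set A.left} (hW : IsClosed W)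
    (hgood : ∀ y : Pt A, K527.FibPts.pt y ∉ W → h k i (toU (phi ℓ y) • c) = hg k (P0 A) i c) {x : A.left} (hx : x ∉ W) :
    FrAt x (Ph ℓ i c) := by
  obtain ⟨G, he, hG, hf⟩ := exists_G (B := A) (toU (lam ℓ)) hc
  have hJ : JacobsonSpace A.left := LocallyOfFiniteType.jacobsonSpace A.hom
  have hint : IsIntegral A.left := isInt
  have hb : ∀ y : Pt A, PerfAux.betti (snd A A).left G (K527.FibPts.pt y) i = h k i (toU (phi ℓ y) • c) := by
    intro y
    rw [K527.FibPts.pt, betti_v _ hG he, um_sl_lam]
  have h1 : ∀ z : A.left, ¬ PerfAux.betti (snd A A).left G z i < hg k (P0 A) i c := by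
    have h2 := K527.FibPts.subset_of_closedPoints (Y := A.left) (N := Set.univ)
      (Z := {z | PerfAux.betti (snd A A).left G z i < hg k (P0 A) i c}ᶜ) isClosed_univ
      (isOpen_betti hG hf i _).isClosed_compl (by
        intro y hy _
        obtain ⟨w, rfl⟩ := K512.Pts.exists_pt y hy
        change ¬ (PerfAux.betti (snd A A).left G (K527.FibPts.pt w) i < _)
        rw [hb, not_lt]
        exact hg_le k _ i c (toU_mem_P0 (phi_mem_Inv ℓ w)))
    exact fun z => h2 (Set.mem_univ z)
  have h2 : ∀ z : A.left, z ∉ W → PerfAux.betti (snd A A).left G z i < hg k (P0 A) i c + 1 := by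
    have h3 := K527.FibPts.subset_of_closedPoints (Y := A.left)
      (N := {z | PerfAux.betti (snd A A).left G z i < hg k (P0 A) i c + 1}ᶜ) (Z := W)
      (isOpen_betti hG hf i _).isClosed_compl hW (by
        intro y hy hyN
        obtain ⟨w, rfl⟩ := K512.Pts.exists_pt y hy
        by_contra hyW
        apply hyN
        change PerfAux.betti (snd A A).left G (K527.FibPts.pt w) i < _
        rw [hb, hgood w hyW]
        exact Nat.lt_succ_self _)
    intro z hz
    by_contra h4
    exact hz (h3 h4)
  have h3 : Ph ℓ i c = mc ((Coh.Rpush (snd A A).left i).obj G) := by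
    rw [Ph, ← he]
    exact R_mc _ _ _
  rw [h3, frAt_mc]
  have : LocallyOfFinitePresentation (snd A A).left :=
    inferInstanceAs (LocallyOfFinitePresentation (pullback.snd A.hom A.hom))
  refine K110.FreeTop.free_stalk (snd A A).left G hG.1 ((S0018.result _ G).mp hG) hf i (hg k (P0 A) i c)
    ⟨Wᶜ, hW.isOpen_compl⟩ (fun s hs => ?_) hx
  have h4 := h1 s
  have h5 := h2 s hs
  change PerfAux.betti (snd A A).left G s i = _
  omega

end K110.PhFree
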