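import Groth.Agent.AbVar.K110.PosNeg
import Groth.Agent.AbVar.K110.PhFree
import Groth.Agent.AbVar.K110.LowerH
import Groth.Agent.AbVar.K110.Jet
import Groth.Agent.AbVar.K526.Rows
/-!
# Smoothness of the top rank function at zero and the jump locus

`jet_top`: if `h^g(φ(y)⁻¹ ⊗ c)` is generic for `y` outside a closed set of dimension `< m`, `m ≤ g`, then the two polynomials of
the rank function `h^g_c` at `0` are congruent modulo `X^{g-m+1}`.
-/

set_option autoImplicit false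
universe u
open CategoryTheory CategoryTheory.Limits MonoidalCategory CartesianMonoidalCategory AlgebraicGeometry
open scoped MonObj
open Groth.Agent Groth.Agent.Fga.PicMon Groth.Agent.Fga Groth.Agent.Pic13.H11.Cls Groth.Agent.Pic13.H11.NumU
  Groth.Agent.Grpsch.PicGrp Groth.Agent.Grpsch.Cube

namespace K110.JumpTop

open K526 K526.Cut K526.PullM K518.Phi _root_.K526.Prod K526.Core K526.Inst K110.DualSeq K110.TopLer K526.Neg
  K110.PosNeg K110.PhFree K110.LowerH K110.Jet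

variable {k : Type u} [Field k] {A : Over (Spec (CommRingCat.of k))} [GrpObj A] [IsProper A.hom]
  [GeometricallyIntegral A.hom] {g : ℕ}
  [IsAlgClosed k] {L : A.left.Modules} (hL : CohB1.IsAmple L)
  (H : Ctx k g (toU (mk L hL.1)) (P0 A) (fun b => pm (nn A b).left))
include H

theorem rk_of_core {i : ℕ} {c d : MC A.left} (hc : Co c) (hd : Co d) {Q : Polynomial ℚ}
    (hQ : ∀ n : ℤ, (chi k (toU (mk L hL.1) ^ n • d) : ℚ) = Q.eval (n : ℚ)) (s : ℤ) {M : ℕ}
    (hM : ∀ a b : ℕ, 1 ≤ a → 1 ≤ b → M * a ≤ b →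
      chi k ((toU (mk L hL.1) : (MC A.left)ˣ) : MC A.left) * (a : ℤ) ^ g *
          (hg k (P0 A) i (toU (mk L hL.1) ^ (s * ((a : ℤ) * b)) • pm (nn A b).left c) : ℕ) =
        (b : ℤ) ^ g * chi k (toU (mk L hL.1) ^ ((a : ℤ) * b) • pm (nn A a).left d)) (t : ℚ) (ht : 0 < t)
    (htM : t < 1 / (M + 1)) :
    rk k g (toU (mk L hL.1)) (P0 A) (fun b => pm (nn A b).left) i c (s * t) =
      1 / (chi k ((toU (mk L hL.1) : (MC A.left)ˣ) : MC A.left) : ℚ) * (t ^ g * Q.eval (1 / t)) := by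
  have hpos := chi_pos hL H
  have hn : 0 < t.num := Rat.num_pos.mpr ht
  obtain ⟨a, ha'⟩ := Int.eq_ofNat_of_zero_le hn.le
  have ha : 1 ≤ a := by omega
  set b := t.den with hbdef
  have hb : 1 ≤ b := t.den_pos
  have ha0 : (0 : ℚ) < a := by exact_mod_cast ha
  have hb0 : (0 : ℚ) < b := by exact_mod_cast hb
  have hat : (a : ℚ) = t * b := by
    have h1 := Rat.mul_den_eq_num t
    rw [ha'] at h1
    push_cast at h1
    exact h1.symm
  have hMab : M * a ≤ b := by
    rw [lt_div_iff₀ (by positivity)] at htM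
    have h1 : (M : ℚ) * a ≤ b := by
      rw [hat]
      nlinarith
    exact_mod_cast h1
  have h1 := hM a b ha hb hMab
  have h2 := H.hilb pm_nn_one hd hQ ha ((a : ℤ) * b)
  have h1' : (chi k ((toU (mk L hL.1) : (MC A.left)ˣ) : MC A.left) : ℚ) * (a : ℚ) ^ g *
      (HH k (toU (mk L hL.1)) (P0 A) (fun b => pm (nn A b).left) i c b (s * ((a : ℤ) * b)) : ℚ) =
      (b : ℚ) ^ g * (chi k (toU (mk L hL.1) ^ ((a : ℤ) * b) • pm (nn A a).left d) : ℚ) := by
    exact_mod_cast h1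
  rw [h2] at h1'
  have hχ : (chi k ((toU (mk L hL.1) : (MC A.left)ˣ) : MC A.left) : ℚ) ≠ 0 := by exact_mod_cast hpos.ne'
  have e1 : (((a : ℤ) * b : ℤ) : ℚ) / (a : ℚ) ^ 2 = 1 / t := by
    push_cast
    rw [hat]
    field_simp
  rw [e1] at h1'
  rw [H.rk_eq hc (s * t) (n := s * ((a : ℤ) * b)) hb (by
    push_cast
    rw [hat]
    ring)]
  have e2 : (HH k (toU (mk L hL.1)) (P0 A) (fun b => pm (nn A b).left) i c b (s * ((a : ℤ) * b)) : ℚ) =
      (b : ℚ) ^ g * (a : ℚ) ^ g * Q.eval (1 / t) / (chi k ((toU (mk L hL.1) : (MC A.left)ˣ) : MC A.left) : ℚ) := by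
    rw [eq_div_iff hχ]
    have hag : (a : ℚ) ^ g ≠ 0 := pow_ne_zero _ ha0.ne'
    refine mul_left_cancel₀ hag ?_
    rw [two_mul, pow_add] at h1'
    linear_combination h1'
  rw [e2, two_mul, pow_add, hat, mul_pow]
  field_simp

/-- **Smoothness of the top rank function at zero.** -/
theorem jet_top (hgm : ∀ b, 1 ≤ b → ∀ d : MC A.left, Co d →
      hg k (P0 A) g (pm (nn A b).left d) = b ^ (2 * g) * hg k (P0 A) g d) {c : MC A.left} (hc : Co c)
    {W : Set A.left} (hWc : IsClosed W) {m : ℕ} (hm : m ≤ g) (hW : topologicalKrullDim W < (m : WithBot ℕ∞))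
    (hgood : ∀ y : Pt A, K527.FibPts.pt y ∉ W → h k g ((toU (phi (mk L hL.1) y))⁻¹ • c) = hg k (P0 A) g c) :
    Jet (g - m + 1) (rk k g (toU (mk L hL.1)) (P0 A) (fun b => pm (nn A b).left) g c) := by
  have hN := IntAdd.isNoetherian k A.left
  have hco := co_Ph (mk L hL.1) g hc
  have hco' := co_Ph (mk L hL.1)⁻¹ g hc
  have hfr : ∀ x ∉ W, FrAt x (Ph (mk L hL.1)⁻¹ g c) := fun x hx => by
    refine frAt_Ph _ hc g hWc (fun y hy => ?_) hx
    rw [phi_inv_left, map_inv]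
    exact hgood y hy
  obtain ⟨Q, hQ, hQ'⟩ := Hilb.exists_poly k (toU (mk L hL.1)) hco ((dim_supp_le _).trans H.dim.le)
  obtain ⟨Q', -, hQ''⟩ := Hilb.exists_poly k (toU (mk L hL.1)) (co_dl hco') ((dim_supp_le _).trans H.dim.le)
  obtain ⟨E, hE, hE'⟩ := hilb_dual H pm_nn_one (top_dual_one H.dim) hW hco' hfr
    (Q := Q) (Q' := Q') (fun n => by rw [chi_Ph_inv hL H hc]; exact hQ' n) hQ''
  obtain ⟨M, hM⟩ := core_neg hL H hc
  obtain ⟨M', hM'⟩ := core_pos hL H hgm hc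
  have h0 : (0 : ℚ) < 1 / (M + 1) := by positivity
  have h0' : (0 : ℚ) < 1 / (M' + 1) := by positivity
  refine jet_of_hilbert hm (κ := 1 / (chi k ((toU (mk L hL.1) : (MC A.left)ˣ) : MC A.left) : ℚ))
    (ε := min (1 / ((M : ℚ) + 1)) (1 / ((M' : ℚ) + 1))) hQ hE hE' (lt_min h0 h0') (fun t ht1 ht2 => ?_)
    (fun t ht1 ht2 => ?_)
  · have h1 := rk_of_core hL H (i := g) hc hco hQ' (-1) (M := M) (fun a b ha hb hab => by
      rw [neg_one_mul]
      exact hM a b ha hb hab g) t ht1 (lt_of_lt_of_le ht2 (min_le_left _ _))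
    rw [← h1]
    congr 1
    push_cast
    ring
  · have h1 := rk_of_core hL H (i := g) hc (co_dl hco') hQ'' 1 (M := M') (fun a b ha hb hab => by
      rw [one_mul]
      exact hM' a b ha hb hab) t ht1 (lt_of_lt_of_le ht2 (min_le_right _ _))
    rw [← h1]
    congr 1
    push_cast
    ring

end K110.JumpTop
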