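import Groth.Agent.AbVar.K110.TopLer
import Groth.Agent.AbVar.K110.DualSeq
import Groth.Agent.AbVar.K526.Neg
import Groth.Agent.AbVar.K70.TopDualAV
/-!
# Top rank functions on both sides of zero

`ℓ` ample of class `η`, `Φ = R^g q_*(λ_ℓ ⊗ p^*c)`, `M' = R^g q_*(λ_ℓ⁻¹ ⊗ p^*c)`:
* `core_pos`: `χ(η) a^g h^g_gen(η^{ab} ⊗ b^*c) = b^g χ(η^{ab} ⊗ a^* M'^∨)` for `b ≥ M a`;
* `chi_Ph_inv`: `M'` and `Φ` have the same Hilbert polynomial.
-/

set_option autoImplicit false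
universe u
open CategoryTheory CategoryTheory.Limits MonoidalCategory CartesianMonoidalCategory AlgebraicGeometry
open scoped MonObj
open Groth.Agent Groth.Agent.Fga.PicMon Groth.Agent.Fga Groth.Agent.Pic13.H11.Cls Groth.Agent.Pic13.H11.NumU
  Groth.Agent.Grpsch.PicGrp Groth.Agent.Grpsch.Cube

namespace K110.PosNeg

open K526 K526.Cut K526.PullM K518.Phi _root_.K526.Prod K526.Core K526.Inst K110.DualSeq K110.TopLer K526.Neg
open Groth.Agent.CohqB.HomSheaf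

variable {k : Type u} [Field k] {A : Over (Spec (CommRingCat.of k))} [GrpObj A] [IsProper A.hom]
  [GeometricallyIntegral A.hom] {g : ℕ}

section dual
variable [IsAlgClosed k]

/-- Duality in top degree. -/
theorem top_dual (hdim : topologicalKrullDim A.left = g) {c : MC A.left} (hc : Co c) {b : ℕ} (hb : 1 ≤ b)
    (v : (MC A.left)ˣ) :
    h k g (v • pm (nn A b).left c) = h k 0 (v⁻¹ • pm (nn A b).left (dl c)) := by
  obtain ⟨H, hH⟩ := S1841.result k A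
  obtain ⟨ω, t, hω, ht⟩ := K70.TopDual.exists_pair hdim
  have hN := IntAdd.isNoetherian k A.left
  have : IsIntegral A.left := isInt
  obtain ⟨e⟩ := K70.TopDual.exists_iso k hdim.le hH (fun n hn => by
      have e0 : toU (mk H hH.1) = unit hH.1 := Units.ext (by rw [toU_mk_val, unit_val])
      rw [← e0, ← map_pow, V_toU]
      exact van_pow hH hn le_rfl)
    (fun n hn => (K70.TopDual.h_inv_eq hdim hH hn).le) (K70.TopDual.not_V_one hdim) hω ht
  induction c using MC.ind with | h F => ?_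
  have := flat_nn (A := A) hb
  exact K70.TopDual.top_dual k e ht (nn A b).left hc v

theorem top_dual_one (hdim : topologicalKrullDim A.left = g) (c : MC A.left) (hc : Co c) (v : (MC A.left)ˣ) :
    h k g (v • c) = h k 0 (v⁻¹ • dl c) := by
  have h1 := top_dual hdim hc le_rfl v
  rwa [pm_nn_one, pm_nn_one] at h1

end dual

/-! ### The inversion -/

omit [IsProper A.hom] [GeometricallyIntegral A.hom] in
variable (A) in
/-- The inversion. -/
noncomputable abbrev nu : A ⟶ A := (𝟙 A : A ⟶ A)⁻¹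

omit [IsProper A.hom] [GeometricallyIntegral A.hom] in
theorem nu_nu [IsCommMonObj A] : nu A ≫ nu A = 𝟙 A := by
  rw [GrpObj.comp_inv, Category.comp_id, inv_inv]

theorem isIso_nu : IsIso (nu A).left := by
  have : IsCommMonObj A := isCommMonObj_of_isProper_of_geometricallyIntegral A
  exact ⟨⟨(nu A).left, by rw [← Over.comp_left, nu_nu]; rfl, by rw [← Over.comp_left, nu_nu]; rfl⟩⟩

theorem lam_inv (ℓ : Pic A.left) : pl (A ◁ nu A) (lam ℓ) = (lam ℓ)⁻¹ := by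
  rw [lam, pl_D, whiskerLeft_fst, whiskerLeft_snd, GrpObj.comp_inv, Category.comp_id]
  have h1 := D_zpow_right ℓ (fst A A) (snd A A) (-1)
  rwa [zpow_neg_one, zpow_neg_one] at h1

omit [IsProper A.hom] [GeometricallyIntegral A.hom] in
theorem lam_inv' (ℓ : Pic A.left) : lam ℓ⁻¹ = (lam ℓ)⁻¹ := by
  have h1 := D_mul_class ℓ ℓ⁻¹ (fst A A) (snd A A)
  rw [mul_inv_cancel, D_one_class] at h1
  exact (inv_eq_of_mul_eq_one_right h1.symm).symm

theorem Ph_inv (ℓ : Pic A.left) {c : MC A.left} (hc : Co c) (j : ℕ) :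
    Ph ℓ⁻¹ j c = pm (nu A).left (Ph ℓ j c) := by
  have := isIso_nu (A := A)
  have hco : Co (toU (lam ℓ) • pm (fst A A).left c) := (co_pm _ hc).smul _
  rw [Ph, Ph, R_bc (sq_wl A (nu A)) hco, pm_toU_smul, lam_inv, ← pm_left_comp, whiskerLeft_fst, lam_inv']

theorem pl_nu [IsAlgClosed k] (ℓ : Pic A.left) : pl (nu A) ℓ * ℓ⁻¹ ∈ Inv A := by
  have : IsCommMonObj A := isCommMonObj_of_isProper_of_geometricallyIntegral A
  rw [← phi_eq_iff]
  intro x
  rw [phi_pl, GrpObj.comp_inv, Category.comp_id, phi_inv, map_inv, pl_inv_of_inv (phi_mem_Inv ℓ x), pl_id, inv_inv]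

/-- The inversion preserves Euler characteristics. -/
theorem chi_nu (hdim : topologicalKrullDim A.left = g) {d : MC A.left} (hd : Co d) :
    chi k (pm (nu A).left d) = chi k d := by
  have := isIso_nu (A := A)
  rw [chi_eq_sum k _ g fun i hi => V_of_lt hdim (co_pm _ hd) hi, chi_eq_sum k _ g fun i hi => V_of_lt hdim hd hi]
  refine Finset.sum_congr rfl fun i _ => ?_
  have h1 : h k i (pm (nu A).left d) = h k i d := h_pm_iso (k := k) (nu A).left (Over.w (nu A)) hd i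
  rw [h1]

variable [IsAlgClosed k] {L : A.left.Modules} (hL : CohB1.IsAmple L)
  (H : Ctx k g (toU (mk L hL.1)) (P0 A) (fun b => pm (nn A b).left))
include H

theorem chi_Ph_inv {c : MC A.left} (hc : Co c) (j : ℕ) (n : ℤ) :
    chi k (toU (mk L hL.1) ^ n • Ph (mk L hL.1)⁻¹ j c) = chi k (toU (mk L hL.1) ^ n • Ph (mk L hL.1) j c) := by
  set ℓ := mk L hL.1 with hℓ
  have hco := co_Ph ℓ j hc
  have hP := pl_nu ℓ
  set α := pl (nu A) ℓ * ℓ⁻¹ with hα
  have h1 : pl (nu A) ℓ = α * ℓ := by rw [hα, inv_mul_cancel_right]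
  have h2 : pm (nu A).left (toU (α * ℓ) ^ n • Ph ℓ j c) = toU ℓ ^ n • Ph ℓ⁻¹ j c := by
    have h3 : Units.map (pm (nu A).left) (toU (α * ℓ) ^ n) = toU ℓ ^ n := by
      rw [map_zpow, um_toU]
      congr 2
      rw [← h1]
      change pl (nu A) (pl (nu A) ℓ) = ℓ
      have : IsCommMonObj A := isCommMonObj_of_isProper_of_geometricallyIntegral A
      rw [← pl_comp, nu_nu, pl_id]
    rw [pm_smul, h3, Ph_inv ℓ hc]
  rw [← h2, chi_nu H.dim (hco.smul _), map_mul, mul_zpow, ← smul_smul, H.chi_smul _ ?_ _ (hco.smul _)]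
  exact Subgroup.zpow_mem _ (toU_mem_P0 hP) n

omit [GrpObj A] [IsProper A.hom] [GeometricallyIntegral A.hom] [IsAlgClosed k] H in
theorem hg_dual {c d : MC A.left} {v w : (MC A.left)ˣ} {P : Subgroup (MC A.left)ˣ} {g : ℕ}
    (hd : ∀ u ∈ P, h k g (u • v • c) = h k 0 (u⁻¹ • w • d)) : hg k P g (v • c) = hg k P 0 (w • d) := by
  refine le_antisymm ?_ ?_
  · refine le_ciInf fun u => ?_
    refine (ciInf_le (OrderBot.bddBelow _) (⟨(u : (MC A.left)ˣ)⁻¹, P.inv_mem u.2⟩ : P)).trans ?_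
    rw [hd _ (P.inv_mem u.2), inv_inv]
  · refine le_ciInf fun u => ?_
    refine (ciInf_le (OrderBot.bddBelow _) (⟨(u : (MC A.left)ˣ)⁻¹, P.inv_mem u.2⟩ : P)).trans ?_
    rw [hd _ u.2]

theorem h_top_neg {n : ℕ} (hn : 1 ≤ n) :
    (h k g ((toU ((mk L hL.1)⁻¹ ^ n) : (MC A.left)ˣ) : MC A.left) : ℤ) =
      (n : ℤ) ^ g * chi k ((toU (mk L hL.1) : (MC A.left)ˣ) : MC A.left) := by
  have hpos := chi_pos hL H
  have e1 : (toU ((mk L hL.1)⁻¹ ^ n) : (MC A.left)ˣ) = toU (mk L hL.1) ^ (-(n : ℤ)) := by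
    rw [map_pow, map_inv, zpow_neg, zpow_natCast, inv_pow]
  rw [e1]
  have hV : ∀ i, i ≠ g → V i ((toU (mk L hL.1) ^ (-(n : ℤ)) : (MC A.left)ˣ) : MC A.left) := by
    intro i hi
    have h1 := H.van' 1 (P0 A).one_mem (-(n : ℤ)) (by omega) i hi
    rwa [one_mul] at h1
  have h1 := abs_chi_eq k hV
  have h2 := chi_zpow H pm_nn_one (-(n : ℤ))
  have h3 : chi k ((toU (mk L hL.1) ^ (-(n : ℤ)) : (MC A.left)ˣ) : MC A.left) =
      (-(n : ℤ)) ^ g * chi k ((toU (mk L hL.1) : (MC A.left)ˣ) : MC A.left) := by exact_mod_cast h2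
  rw [← h1, h3, abs_mul, abs_of_pos hpos, abs_pow, abs_neg, Nat.abs_cast]

/-- **The comparison for small positive twists in the top degree.** -/
theorem core_pos (hgm : ∀ b, 1 ≤ b → ∀ d : MC A.left, Co d →
      hg k (P0 A) g (pm (nn A b).left d) = b ^ (2 * g) * hg k (P0 A) g d) {c : MC A.left} (hc : Co c) :
    ∃ M : ℕ, ∀ a b : ℕ, 1 ≤ a → 1 ≤ b → M * a ≤ b →
      chi k ((toU (mk L hL.1) : (MC A.left)ˣ) : MC A.left) * (a : ℤ) ^ g *
          (hg k (P0 A) g (toU (mk L hL.1) ^ ((a : ℤ) * b) • pm (nn A b).left c) : ℕ) =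
        (b : ℤ) ^ g * chi k (toU (mk L hL.1) ^ ((a : ℤ) * b) • pm (nn A a).left (dl (Ph (mk L hL.1)⁻¹ g c))) := by
  set ℓ := mk L hL.1 with hℓ
  have hco := co_Ph ℓ⁻¹ g hc
  have hN := IntAdd.isNoetherian k A.left
  have hcd : Co (dl (Ph ℓ⁻¹ g c)) := co_dl hco
  obtain ⟨M, hM⟩ := H.serre hcd
  refine ⟨M, fun a b ha hb hab => ?_⟩
  have hab1 : 1 ≤ a * b := Nat.mul_pos ha hb
  have hsurj : ∀ n, 1 ≤ n → ∀ α ∈ Inv A, ∃ y : Pt A, phi ℓ⁻¹ y ^ n = α := by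
    intro n hn α hα
    obtain ⟨y, hy⟩ := surj_ample hL n hn α⁻¹ (Subgroup.inv_mem _ hα)
    exact ⟨y, by rw [phi_inv_left, inv_pow, hy, inv_inv]⟩
  have h1 := core_top (g := g) ℓ⁻¹ H.dim ha hb hc (fun d hd => hgm b hb d hd) hsurj
  have e1 : (toU (ℓ⁻¹ ^ (a * b)) : (MC A.left)ˣ) = (toU ℓ ^ ((a : ℤ) * b))⁻¹ := by
    rw [map_pow, map_inv, inv_pow, ← Nat.cast_mul, zpow_natCast]
  have h2 := h_top_neg hL H hab1
  have h3 : hg k (P0 A) g ((toU ℓ ^ ((a : ℤ) * b))⁻¹ • pm (nn A a).left (Ph ℓ⁻¹ g c)) =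
      hg k (P0 A) 0 (toU ℓ ^ ((a : ℤ) * b) • pm (nn A a).left (dl (Ph ℓ⁻¹ g c))) := by
    refine hg_dual fun u hu => ?_
    rw [smul_smul, top_dual H.dim hco ha, smul_smul, mul_inv, inv_inv]
  have h4 : (hg k (P0 A) 0 (toU ℓ ^ ((a : ℤ) * b) • pm (nn A a).left (dl (Ph ℓ⁻¹ g c))) : ℤ) =
      chi k (toU ℓ ^ ((a : ℤ) * b) • pm (nn A a).left (dl (Ph ℓ⁻¹ g c))) := by
    refine H.chi_eq_hg ((H.co a ha _ hcd).smul _) fun u hu q => ?_
    rw [smul_smul]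
    refine hM a ha ((a : ℤ) * b) ?_ u hu q
    have : (M : ℤ) * a ≤ b := by exact_mod_cast hab
    have h0 : (0 : ℤ) ≤ a := by positivity
    nlinarith
  rw [← h4, ← h3]
  rw [← e1]
  rw [e1, inv_inv] at h1
  rw [← e1] at h1
  have h5 : (h k g ((toU (ℓ⁻¹ ^ (a * b)) : (MC A.left)ˣ) : MC A.left) : ℤ) *
      (hg k (P0 A) g (toU ℓ ^ ((a : ℤ) * b) • pm (nn A b).left c) : ℕ) =
      (b : ℤ) ^ (2 * g) * (hg k (P0 A) g (toU (ℓ⁻¹ ^ (a * b)) • pm (nn A a).left (Ph ℓ⁻¹ g c)) : ℕ) := by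
    exact_mod_cast h1
  rw [h2] at h5
  have hb0 : (b : ℤ) ^ g ≠ 0 := pow_ne_zero _ (by positivity)
  refine mul_left_cancel₀ hb0 ?_
  push_cast at h5
  rw [mul_pow] at h5
  calc (b : ℤ) ^ g * (chi k ((toU ℓ : (MC A.left)ˣ) : MC A.left) * (a : ℤ) ^ g *
        (hg k (P0 A) g (toU ℓ ^ ((a : ℤ) * b) • pm (nn A b).left c) : ℕ))
      = (a : ℤ) ^ g * (b : ℤ) ^ g * chi k ((toU ℓ : (MC A.left)ˣ) : MC A.left) *
        (hg k (P0 A) g (toU ℓ ^ ((a : ℤ) * b) • pm (nn A b).left c) : ℕ) := by ring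
    _ = _ := h5
    _ = _ := by ring

end K110.PosNeg
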