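import Groth.Agent.AbVar.K526.Core2
import Groth.Agent.AbVar.K526.Fam
import Groth.Agent.AbVar.K526.Neg
import Groth.Agent.Etdl.H142.TopLeray
import Groth.Agent.CohqA.InjLift
/-!
# The Leray isomorphism in the top degree for classes of modules, and the comparison on `A × A` for positive twists
-/

set_option autoImplicit false
universe u
open CategoryTheory CategoryTheory.Limits MonoidalCategory CartesianMonoidalCategory AlgebraicGeometry
open scoped MonObj
open Groth.Agent Groth.Agent.Fga.PicMon Groth.Agent.Fga Groth.Agent.Pic13.H11.Cls Groth.Agent.Pic13.H11.NumU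
  Groth.Agent.Grpsch.PicGrp Groth.Agent.Grpsch.Cube

namespace K110.TopLer

open K526 K526.Cut K526.PullM K518.Phi _root_.K526.Prod K526.Core

section leray
variable (k : Type u) [Field k] {X Y : Scheme.{u}} [X.Over (Spec (CommRingCat.of k))] [Y.Over (Spec (CommRingCat.of k))]
  [IsProper (X ↘ Spec (CommRingCat.of k))] [IsProper (Y ↘ Spec (CommRingCat.of k))]
  (f : X ⟶ Y) (hf : f ≫ (Y ↘ Spec (CommRingCat.of k)) = X ↘ Spec (CommRingCat.of k))

include hf in
theorem h_top_succ [Flat f] [IsProper f] [IsLocallyNoetherian Y] (a b : ℕ) {c : MC X} (hc : Co c)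
    (hb : ∀ j, b < j → R f j c = fr Y 0)
    (ha : ∀ i, a + 1 < i → ∀ j, V i (R f j c)) : h k (a + 1 + b) c = h k (a + 1) (R f b c) := by
  induction c using MC.ind with | h M => ?_
  let F := Scheme.Modules.pushforward f
  let G := Scheme.Modules.pushforward (Y ↘ Spec (CommRingCat.of k))
  obtain ⟨e⟩ := Etdl.H142.TopLeray.nonempty_top F G (fun I hI => CohqA.InjLift.injective_pushforward f I hI) a b M
    (fun j hj => (eq_zero_iff (R_mc f j M)).mp (hb j hj)) (fun i hi j => by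
      have h1 : R (Y ↘ Spec (CommRingCat.of k)) i (R f j (mc M)) = fr _ 0 := by
        rw [R_spec k _ rfl (co_R f j hc), h_eq_zero k (ha i hi j)]
      exact (eq_zero_iff rfl).mp h1)
  have e2 : F ⋙ G ≅ Scheme.Modules.pushforward (X ↘ Spec (CommRingCat.of k)) :=
    Scheme.Modules.pushforwardComp f _ ≪≫ eqToIso (by rw [hf])
  have e3 := (Sga4h.LerayAcyc.rightDerivedCongr e2 (a + 1 + b)).app M
  have h2 : R (X ↘ Spec (CommRingCat.of k)) (a + 1 + b) (mc M) =
      R (Y ↘ Spec (CommRingCat.of k)) (a + 1) (R f b (mc M)) := mc_eq (e3.symm ≪≫ e)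
  rw [R_spec k _ rfl hc, R_spec k _ rfl (co_R f b hc)] at h2
  rw [← h_fr_spec k (h k (a + 1 + b) (mc M)), h2, h_fr_spec]

include hf in
/-- **Leray in the top degree.** -/
theorem h_top [Flat f] [IsProper f] [IsLocallyNoetherian Y] (a b : ℕ) {c : MC X} (hc : Co c)
    (hb : ∀ j, b < j → R f j c = fr Y 0)
    (ha : ∀ i, a < i → ∀ j, V i (R f j c)) : h k (a + b) c = h k a (R f b c) := by
  rcases a with _ | a
  · rw [Nat.zero_add]
    exact h_R k f hf (fun j q => ha (q + 1) (by omega) j) b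
  · exact h_top_succ k f hf a b hc hb ha

end leray

variable {k : Type u} [Field k] {A : Over (Spec (CommRingCat.of k))} [GrpObj A] [IsProper A.hom]
  [GeometricallyIntegral A.hom] {g : ℕ}

omit [GrpObj A] [GeometricallyIntegral A.hom] in
theorem V_of_lt (hg : topologicalKrullDim A.left = g) {c : MC A.left} (hc : Co c) {i : ℕ} (hi : g < i) : V i c :=
  V_of_dim k hc ((dim_supp_le _).trans hg.le) hi

instance flat_fst : Flat (fst A A).left := by
  rw [show (fst A A).left = pullback.fst A.hom A.hom from rfl]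
  infer_instance

instance flat_snd : Flat (snd A A).left := by
  rw [show (snd A A).left = pullback.snd A.hom A.hom from rfl]
  infer_instance

variable (ℓ : Pic A.left)

/-- The top direct image of `W`. -/
noncomputable def QT (g a b : ℕ) (c : MC A.left) : MC A.left := R (fst A A).left g (WW ℓ a (a * b) c)

theorem co_QT (a b : ℕ) {c : MC A.left} (hc : Co c) : Co (QT ℓ g a b c) := co_R _ g (co_WW ℓ a (a * b) hc)

variable [IsAlgClosed k] (hdim : topologicalKrullDim A.left = g)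
include hdim

omit [IsAlgClosed k] in
/-- `h^{2g}(p^*α ⊗ W) = h^g(α ⊗ Q)`. -/
theorem h_fst_top (a : ℕ) {b : ℕ} (hb : 1 ≤ b) {c : MC A.left} (hc : Co c) (α : Pic A.left) :
    h k (g + g) (toU (pl (fst A A) α) • WW ℓ a (a * b) c) = h k g (toU α • QT ℓ g a b c) := by
  have e1 : ∀ j, R (fst A A).left j (toU (pl (fst A A) α) • WW ℓ a (a * b) c) =
      toU α • R (fst A A).left j (WW ℓ a (a * b) c) := by
    intro j
    have h1 := R_proj (fst A A).left j (toU α) (WW ℓ a (a * b) c)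
    rw [um_toU] at h1
    exact h1
  rw [h_top k (fst A A).left (Over.w (fst A A)) g g ((co_WW ℓ a (a * b) hc).smul _) (fun j hj => ?_)
    (fun i hi j => V_of_lt hdim (co_R _ j ((co_WW ℓ a (a * b) hc).smul _)) hi), e1]
  · rfl
  · have := flat_nn (A := A) hb
    have := surj_nn (A := A) hb
    have h2 : R (fst A A).left j (WW ℓ a (a * b) c) = fr A.left 0 := by
      refine eq_zero_of_pm (nn A b).left ?_
      have hm : Co ((toU (ℓ ^ (a * b)) : (MC A.left)ˣ) : MC A.left) := by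
        rw [← smul_one']
        exact co_one.smul _
      rw [pm_R_fst_WW ℓ a hb hc, h_eq_zero k (V_of_lt hdim hm hj), fr_zero_mul]
    rw [e1, h2, smul_fr_zero]

/-- `h^{2g}(q^*β ⊗ W) = h^g(β ℓ^n ⊗ a^*Φ_g)`. -/
theorem h_snd_top {a : ℕ} (ha : 1 ≤ a) (n : ℕ) (β : Pic A.left) {c : MC A.left} (hc : Co c) :
    h k (g + g) (toU (pl (snd A A) β) • WW ℓ a n c) =
      h k g (toU (β * ℓ ^ n) • pm (nn A a).left (Ph ℓ g c)) := by
  rw [h_top k (snd A A).left (Over.w (snd A A)) g g ((co_WW ℓ a n hc).smul _) (fun j hj => ?_)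
    (fun i hi j => V_of_lt hdim (co_R _ j ((co_WW ℓ a n hc).smul _)) hi), R_snd_WW ℓ ha n β hc]
  rw [R_snd_WW ℓ ha n β hc, Neg.Ph_eq_zero hdim ℓ hc hj, pm_fr, smul_fr_zero]

theorem h_QT {a : ℕ} (ha : 1 ≤ a) {b : ℕ} (hb : 1 ≤ b) {c : MC A.left} (hc : Co c) (y : Pt A) :
    h k g (toU (phi ℓ y ^ a) • QT ℓ g a b c) =
      h k g (toU ((phi ℓ y ^ (a * b))⁻¹) • toU (ℓ ^ (a * b)) • pm (nn A a).left (Ph ℓ g c)) := by
  rw [← h_fst_top ℓ hdim a hb hc, map_pow, h_transl ℓ a (a * b) y hc, h_snd_top ℓ hdim ha (a * b) _ hc, map_mul, smul_smul]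

omit hdim [IsAlgClosed k] in
theorem hg_QT (a : ℕ) {b : ℕ} (hb : 1 ≤ b) {c : MC A.left} (hc : Co c)
    (hgm : ∀ d : MC A.left, Co d → hg k (P0 A) g (pm (nn A b).left d) = b ^ (2 * g) * hg k (P0 A) g d) :
    h k g ((toU (ℓ ^ (a * b)) : (MC A.left)ˣ) : MC A.left) *
        hg k (P0 A) g ((toU (ℓ ^ (a * b)))⁻¹ • pm (nn A b).left c) = b ^ (2 * g) * hg k (P0 A) g (QT ℓ g a b c) := by
  rw [← hgm _ (co_QT ℓ a b hc), QT, pm_R_fst_WW ℓ a hb hc, hg_fr_mul k _ ((co_pm _ hc).smul _)]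

/-- The comparison in the top degree. -/
theorem core_top {a b : ℕ} (ha : 1 ≤ a) (hb : 1 ≤ b) {c : MC A.left} (hc : Co c)
    (hgm : ∀ d : MC A.left, Co d → hg k (P0 A) g (pm (nn A b).left d) = b ^ (2 * g) * hg k (P0 A) g d)
    (hsurj : ∀ n, 1 ≤ n → ∀ α ∈ Inv A, ∃ y : Pt A, phi ℓ y ^ n = α) :
    h k g ((toU (ℓ ^ (a * b)) : (MC A.left)ˣ) : MC A.left) *
        hg k (P0 A) g ((toU (ℓ ^ (a * b)))⁻¹ • pm (nn A b).left c) =
      b ^ (2 * g) * hg k (P0 A) g (toU (ℓ ^ (a * b)) • pm (nn A a).left (Ph ℓ g c)) := by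
  rw [hg_QT ℓ a hb hc hgm]
  congr 1
  refine le_antisymm ?_ ?_
  · obtain ⟨u, ⟨α, hα, rfl⟩, hu⟩ := exists_hg k (P0 A) g (toU (ℓ ^ (a * b)) • pm (nn A a).left (Ph ℓ g c))
    obtain ⟨y, hy⟩ := hsurj (a * b) (Nat.mul_pos ha hb) α⁻¹ (Subgroup.inv_mem _ hα)
    have h1 := h_QT ℓ hdim ha hb hc y
    rw [hy, inv_inv, hu] at h1
    rw [← h1]
    exact hg_le k _ g _ (toU_mem_P0 (Subgroup.pow_mem _ (phi_mem_Inv ℓ y) a))
  · obtain ⟨u, ⟨α, hα, rfl⟩, hu⟩ := exists_hg k (P0 A) g (QT ℓ g a b c)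
    obtain ⟨y, hy⟩ := hsurj a ha α hα
    have h1 := h_QT ℓ hdim ha hb hc y
    rw [hy, hu] at h1
    rw [h1]
    exact hg_le k _ g _ (toU_mem_P0 (Subgroup.inv_mem _ (Subgroup.pow_mem _ (phi_mem_Inv ℓ y) _)))

end K110.TopLer
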